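import Mathlib
import Cfsg.Agent.Lib.Perm.Dickson.Recog

/-!
# A group of order 120 with a central involution and a second involution
-/

set_option autoImplicit false
set_option linter.style.haveILetI false

namespace CfsgLib.Spor.J1Order

/-- A fixed involution of the alternating group of degree five. -/
def altInvol : alternatingGroup (Fin 5) := ⟨Equiv.swap 0 1 * Equiv.swap 2 3, by rw [Equiv.Perm.mem_alternatingGroup]; decide⟩

theorem alt_pow_eight : ∀ x : alternatingGroup (Fin 5), x ^ 8 = 1 → x * x = 1 := by decide +kernel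

theorem alt_conj_invol : ∀ x : alternatingGroup (Fin 5), x * x = 1 → x ≠ 1 →
    ∃ g, g * altInvol * g⁻¹ = x := by decide +kernel

theorem alt_not_comm : ∃ a b : alternatingGroup (Fin 5), a * b ≠ b * a := by decide +kernel

theorem commutator_alt : commutator (alternatingGroup (Fin 5)) = ⊤ := by
  haveI := alternatingGroup.isSimpleGroup_five
  refine (IsSimpleGroup.eq_bot_or_eq_top_of_normal _ inferInstance).resolve_left fun h => ?_
  obtain ⟨a, b, hab⟩ := alt_not_comm
  exact hab (commutatorElement_eq_one_iff_mul_comm.1 (Subgroup.mem_bot.1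
    (h ▸ Subgroup.commutator_mem_commutator (Subgroup.mem_top a) (Subgroup.mem_top b))))

open scoped commutatorElement in
/-- The structure of the centralizer. -/
theorem iso_of_central {C : Type*} [Group C] [Finite C] (h120 : Nat.card C = 120) {u v : C}
    (huo : orderOf u = 2) (hu : ∀ g : C, g * u = u * g) (hvo : orderOf v = 2) (hvu : v ≠ u)
    {A : Subgroup C} (hA : Nat.card A = 5) (hnA : ¬ A.Normal) :
    Nonempty (C ≃* Multiplicative (ZMod 2) × alternatingGroup (Fin 5)) := by
  classical
  haveI : Fact (Nat.Prime 2) := ⟨Nat.prime_two⟩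
  set Z := Subgroup.zpowers u with hZ
  have hZc : Nat.card Z = 2 := by rw [hZ, Nat.card_zpowers, huo]
  have hu2 : u * u = 1 := by rw [← sq, ← huo, pow_orderOf_eq_one]
  have hu1 : u ≠ 1 := fun h => by rw [h, orderOf_one] at huo; norm_num at huo
  have hZmem : ∀ z ∈ Z, z = 1 ∨ z = u := by
    rintro _ ⟨k, rfl⟩
    rcases Int.even_or_odd k with ⟨l, rfl⟩ | ⟨l, rfl⟩
    · left; show u ^ (l + l) = 1; rw [← two_mul, zpow_mul]; simp [sq, hu2]
    · right; show u ^ (2 * l + 1) = u; rw [zpow_add, zpow_mul]; simp [sq, hu2]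
  haveI : Z.Normal := ⟨fun z hz g => by
    rcases hZmem z hz with h | h <;> rw [h]
    · simp
    · rw [hu g, mul_assoc, mul_inv_cancel, mul_one]; exact Subgroup.mem_zpowers u⟩
  have hQ : Nat.card (C ⧸ Z) = 60 := by
    have := Subgroup.card_eq_card_quotient_mul_card_subgroup Z
    rw [hZc, h120] at this; omega
  set π := QuotientGroup.mk' Z with hπ
  have hAi : Function.Injective (π.comp A.subtype) := by
    rw [← MonoidHom.ker_eq_bot_iff, eq_bot_iff]
    rintro ⟨a, ha⟩ hk
    rw [Subgroup.mem_bot]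
    rcases hZmem a ((QuotientGroup.eq_one_iff a).1 hk) with rfl | rfl
    · rfl
    · have := Subgroup.orderOf_dvd_natCard A ha
      rw [hA, huo] at this
      norm_num at this
  have hĀ : Nat.card (A.map π) = 5 := by
    rw [← hA]
    refine (Nat.card_congr (Equiv.ofBijective (fun a : A => (⟨π a, a, a.2, rfl⟩ : A.map π)) ⟨fun a b h => ?_, ?_⟩)).symm
    · exact hAi (congrArg Subtype.val h)
    · rintro ⟨_, a, ha, rfl⟩; exact ⟨⟨a, ha⟩, rfl⟩
  have hnĀ : ¬ (A.map π).Normal := by
    intro hn
    refine hnA ⟨fun a ha g => ?_⟩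
    obtain ⟨b, hb, hbe⟩ := hn.conj_mem (π a) ⟨a, ha, rfl⟩ (π g)
    rw [← map_inv, ← map_mul, ← map_mul] at hbe
    obtain ⟨z, hz, hbz⟩ : ∃ z ∈ Z, b * z = g * a * g⁻¹ :=
      ⟨b⁻¹ * (g * a * g⁻¹), QuotientGroup.eq.1 hbe, mul_inv_cancel_left _ _⟩
    rcases hZmem z hz with h | h <;> rw [h] at hbz
    · rw [← hbz, mul_one]; exact hb
    · exfalso
      have h5 : ∀ w ∈ A, w ^ 5 = 1 := fun w hw => by
        have := Subgroup.orderOf_dvd_natCard A hw
        rw [hA] at this
        exact orderOf_dvd_iff_pow_eq_one.1 this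
      have h := congrArg (· ^ 5) hbz
      simp only [conj_pow, h5 a ha, mul_one, mul_inv_cancel] at h
      rw [(show Commute b u from hu b).mul_pow, h5 b hb, one_mul] at h
      rw [show u ^ 5 = (u * u) * (u * u) * u by simp [pow_succ, mul_assoc], hu2, one_mul, one_mul] at h
      exact hu1 h
  obtain ⟨φ⟩ := CfsgLib.Perm.Dickson.mulEquiv_a5 hQ hĀ hnĀ
  obtain ⟨f, hf⟩ : ∃ f : C →* alternatingGroup (Fin 5), ∀ c, f c = φ (π c) :=
    ⟨φ.toMonoidHom.comp π, fun _ => rfl⟩
  have hfsurj : Function.Surjective f := fun y => by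
    obtain ⟨c, hc⟩ := QuotientGroup.mk'_surjective Z (φ.symm y)
    exact ⟨c, by rw [hf, hπ, hc, φ.apply_symm_apply]⟩
  have hker : ∀ c, f c = 1 ↔ c ∈ Z := fun c => by
    rw [hf, ← φ.map_one, φ.injective.eq_iff]
    exact QuotientGroup.eq_one_iff c
  set D := commutator C with hD
  have hDmap : D.map f = ⊤ := by
    rw [hD, commutator_def, Subgroup.map_commutator, Subgroup.map_top_of_surjective f hfsurj,
      ← commutator_def, commutator_alt]
  have hfu : f u = 1 := (hker u).2 (Subgroup.mem_zpowers u)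
  -- the central involution is no commutator
  have huD : u ∉ D := by
    intro huD
    have hDtop : D = ⊤ := by
      rw [eq_top_iff]
      intro c _
      obtain ⟨d, hd, hde⟩ : f c ∈ D.map f := hDmap ▸ Subgroup.mem_top _
      have : d⁻¹ * c ∈ D := by
        rcases hZmem (d⁻¹ * c) ((hker _).1 (by rw [map_mul, map_inv, hde, inv_mul_cancel])) with h | h
        · rw [h]; exact one_mem _
        · rw [h]; exact huD
      simpa using mul_mem hd this
    obtain ⟨S₀, hS₀⟩ := Sylow.exists_subgroup_card_pow_prime 2 (G := C) (n := 3) (by rw [h120]; norm_num)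
    have huS : u ∈ S₀ := by
      obtain ⟨R, hR⟩ := (IsPGroup.of_card (p := 2) (n := 3) hS₀).exists_le_sylow
      have hRe : S₀ = (R : Subgroup C) := Subgroup.eq_of_le_of_card_ge hR (by
        rw [hS₀, R.card_eq_multiplicity, h120]
        exact Nat.pow_le_pow_right two_pos (by
          by_contra hlt
          have h16 := (Nat.Prime.pow_dvd_iff_le_factorization Nat.prime_two (by norm_num : (120 : ℕ) ≠ 0)).2
            (show 4 ≤ (120 : ℕ).factorization 2 by omega)
          norm_num at h16))
      obtain ⟨T, hT⟩ := (IsPGroup.of_card (p := 2) (n := 1) (G := Z) (by rw [hZc, pow_one])).exists_le_sylow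
      obtain ⟨g, rfl⟩ := MulAction.exists_smul_eq C T R
      rw [hRe, Sylow.coe_subgroup_smul]
      refine ⟨u, hT (Subgroup.mem_zpowers u), ?_⟩
      show g * u * g⁻¹ = u
      rw [hu g, mul_assoc, mul_inv_cancel, mul_one]
    have hsq : ∀ w ∈ S₀, w * w = 1 := by
      intro w hw
      have h8 : f w ^ 8 = 1 := by
        have := Subgroup.orderOf_dvd_natCard S₀ hw
        rw [hS₀] at this
        rw [← map_pow, show w ^ 8 = 1 from orderOf_dvd_iff_pow_eq_one.1 this, map_one]
      have h2 := alt_pow_eight _ h8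
      rcases eq_or_ne (f w) 1 with h1 | h1
      · rcases hZmem w ((hker w).1 h1) with rfl | rfl
        · rw [mul_one]
        · exact hu2
      · have hv2 : v * v = 1 := by rw [← sq, ← hvo, pow_orderOf_eq_one]
        have hv1 : f v ≠ 1 := fun h => by
          rcases hZmem v ((hker v).1 h) with h | h
          · rw [h, orderOf_one] at hvo; norm_num at hvo
          · exact hvu h
        obtain ⟨g₁, hg₁⟩ := alt_conj_invol (f v) (by rw [← map_mul, hv2, map_one]) hv1
        obtain ⟨g₂, hg₂⟩ := alt_conj_invol (f w) h2 h1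
        obtain ⟨g, hg⟩ := hfsurj (g₂ * g₁⁻¹)
        have he : f (g * v * g⁻¹) = f w := by
          rw [map_mul, map_mul, map_inv, hg, ← hg₁, ← hg₂]; group
        obtain ⟨z, hz, hzw⟩ : ∃ z ∈ Z, g * v * g⁻¹ * z = w :=
          ⟨(g * v * g⁻¹)⁻¹ * w, (hker _).1 (by rw [map_mul, map_inv, he, inv_mul_cancel]),
            mul_inv_cancel_left _ _⟩
        rw [← hzw]
        have hzz : z * z = 1 ∧ ∀ c, c * z = z * c := by
          rcases hZmem z hz with rfl | rfl
          · exact ⟨mul_one 1, fun c => by simp⟩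
          · exact ⟨hu2, hu⟩
        calc g * v * g⁻¹ * z * (g * v * g⁻¹ * z) = g * v * g⁻¹ * (z * (g * v * g⁻¹)) * z := by group
          _ = g * v * g⁻¹ * ((g * v * g⁻¹) * z) * z := by rw [← hzz.2]
          _ = g * (v * v) * g⁻¹ * (z * z) := by group
          _ = 1 := by rw [hv2, hzz.1]; group
    letI : CommGroup S₀ := { (inferInstance : Group S₀) with
      mul_comm := fun a b => Subtype.ext (by
        have ha := inv_eq_of_mul_eq_one_right (hsq a a.2)
        have hb := inv_eq_of_mul_eq_one_right (hsq b b.2)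
        have hab := inv_eq_of_mul_eq_one_right (hsq _ (mul_mem a.2 b.2))
        show (a : C) * b = (b : C) * a
        rw [mul_inv_rev, ha, hb] at hab
        exact hab.symm) }
    have hidx : S₀.index = 15 := by
      have := S₀.card_mul_index
      rw [hS₀, h120] at this; omega
    have hkey : ∀ (k : ℕ) (g₀ : C), g₀⁻¹ * u ^ k * g₀ ∈ S₀ → g₀⁻¹ * u ^ k * g₀ = u ^ k := fun k g₀ _ => by
      rw [mul_assoc, ← (show Commute g₀ u from hu g₀).pow_right k, inv_mul_cancel_left]
    have htr := MonoidHom.transfer_eq_pow (H := S₀) (MonoidHom.id S₀) u hkey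
    have hk : MonoidHom.transfer (H := S₀) (MonoidHom.id S₀) u = 1 := by
      rw [← MonoidHom.mem_ker]
      exact Abelianization.commutator_subset_ker _ huD
    rw [hk, MonoidHom.id_apply] at htr
    have h15 := congrArg Subtype.val htr
    simp only [OneMemClass.coe_one, hidx] at h15
    rw [show u ^ 15 = (u * u) ^ 7 * u from by rw [← sq, ← pow_mul, ← pow_succ], hu2, one_pow, one_mul] at h15
    exact hu1 h15.symm
  have hDi : Function.Injective (f.comp D.subtype) := by
    rw [← MonoidHom.ker_eq_bot_iff, eq_bot_iff]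
    rintro ⟨d, hd⟩ hk
    rw [Subgroup.mem_bot]
    rcases hZmem d ((hker d).1 hk) with rfl | rfl
    · rfl
    · exact absurd hd huD
  have hDs : Function.Surjective (f.comp D.subtype) := fun y => by
    obtain ⟨d, hd, hde⟩ : y ∈ D.map f := hDmap ▸ Subgroup.mem_top _
    exact ⟨⟨d, hd⟩, hde⟩
  let ψ := MulEquiv.ofBijective (f.comp D.subtype) ⟨hDi, hDs⟩
  let τ : Z ≃* Multiplicative (ZMod 2) := mulEquivOfPrimeCardEq (p := 2) hZc (by simp)
  have hcomm : ∀ (a : Multiplicative (ZMod 2)) (b : alternatingGroup (Fin 5)),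
      Commute ((Z.subtype.comp τ.symm.toMonoidHom) a) ((D.subtype.comp ψ.symm.toMonoidHom) b) := by
    intro a b
    rcases hZmem _ (τ.symm a).2 with h | h <;>
      · show Commute ((τ.symm a : Z) : C) ((ψ.symm b : D) : C)
        rw [h]
        first
          | exact Commute.one_left _
          | exact (hu _).symm
  let Φ := MonoidHom.noncommCoprod (Z.subtype.comp τ.symm.toMonoidHom)
    (D.subtype.comp ψ.symm.toMonoidHom) hcomm
  have hΦ : Function.Injective Φ := by
    rw [← MonoidHom.ker_eq_bot_iff, eq_bot_iff]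
    rintro ⟨a, b⟩ hk
    rw [MonoidHom.mem_ker] at hk
    simp only [Φ, MonoidHom.noncommCoprod_apply, MonoidHom.coe_comp, Function.comp_apply,
      MulEquiv.coe_toMonoidHom, Subgroup.coe_subtype] at hk
    have hb : b = 1 := by
      have h := congrArg f hk
      rw [map_mul, map_one, (hker _).2 (τ.symm a).2, one_mul] at h
      have h' : ψ (ψ.symm b) = 1 := h
      rwa [ψ.apply_symm_apply] at h'
    subst hb
    rw [map_one, OneMemClass.coe_one, mul_one] at hk
    have ha : a = 1 := by
      rw [← τ.apply_symm_apply a, show τ.symm a = 1 from Subtype.ext hk, map_one]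
    subst ha
    exact Subgroup.mem_bot.2 rfl
  have hbij : Function.Bijective Φ := (Nat.bijective_iff_injective_and_card Φ).2 ⟨hΦ, by
    rw [Nat.card_prod, h120, Nat.card_eq_fintype_card, Fintype.card_multiplicative, ZMod.card,
      ← Nat.card_congr φ.toEquiv, hQ]⟩
  exact ⟨(MulEquiv.ofBijective Φ hbij).symm⟩

end CfsgLib.Spor.J1Order
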