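import Cfsg.Agent.Lib.Spor.J1Order.Structure
import Cfsg.Agent.Lib.Spor.J1Order.TwoAlt
import Cfsg.Agent.S0225

/-!
# Order 175560: an involution with centralizer `2 × A₅`
-/

set_option autoImplicit false
set_option linter.unusedSectionVars false
set_option linter.style.haveILetI false

namespace CfsgLib.Spor.J1Order

open Cfsg

variable {G : Type*} [Group G] [Finite G] [IsSimpleGroup G]

theorem exists_centralizer (hg : Nat.card G = 175560) :
    ∃ t : G, orderOf t = 2 ∧
      Nonempty (Subgroup.centralizer ({t} : Set G) ≃* Multiplicative (ZMod 2) × alternatingGroup (Fin 5)) := by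
  classical
  haveI := Fintype.ofFinite G
  haveI : Fact (Nat.Prime 19) := ⟨by norm_num⟩
  haveI : Fact (Nat.Prime 5) := ⟨by norm_num⟩
  haveI : Fact (Nat.Prime 2) := ⟨Nat.prime_two⟩
  have hG := not_comm (G := G) hg
  obtain ⟨P, hP, hC, hN, h19, ⟨S⟩⟩ := nineteen_data hg
  obtain ⟨x, u, hx, hx1, huo, hu2, hinv⟩ := exists_inverting (by norm_num) hP (by decide) hC hN
  set K := Subgroup.centralizer ({u} : Set G) with hK
  have hK19 : ¬ 19 ∣ Nat.card K := fun h => by
    obtain ⟨b, hb, hbu⟩ := exists_commuting (q := 19) (a := u) h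
    have := h19.dvd_of_commute Nat.prime_two (by norm_num) (by norm_num) huo hb hbu.symm
    norm_num at this
  have hK120 : Nat.card K = 120 := card_centralizer_inverting hG S hP hg hC hx hx1 huo hinv hK19
  have hu1 : u ≠ 1 := fun h => by rw [h, orderOf_one] at huo; norm_num at huo
  -- a second involution
  obtain ⟨v, hvo, hvu⟩ : ∃ v : K, orderOf v = 2 ∧ v ≠ ⟨u, Subgroup.mem_centralizer_singleton_iff.2 rfl⟩ := by
    have hE : ∃ E : Subgroup G, IsKleinFour E := by
      by_contra hno
      push Not at hno
      obtain ⟨z, hz, N, hNn, hodd, hzN⟩ :=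
        Cfsg.Agent.S0225.result (G := G) (by rw [hg]; decide) hno
      haveI := hNn
      have hNb : N = ⊥ := (IsSimpleGroup.eq_bot_or_eq_top_of_normal N hNn).resolve_right fun h => by
        rw [h, Subgroup.card_top, hg] at hodd
        exact absurd hodd (by decide)
      have hzc : z ∈ Subgroup.center G := Subgroup.mem_center_iff.2 fun g => by
        have h := hzN g
        rw [hNb, Subgroup.mem_bot, ← commutatorElement_def] at h
        exact ((commutatorElement_eq_one_iff_mul_comm).1 h).symm
      rw [center_eq_bot hg, Subgroup.mem_bot] at hzc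
      rw [hzc, orderOf_one] at hz
      norm_num at hz
    obtain ⟨E, hE⟩ := hE
    obtain ⟨T, hT⟩ := (IsPGroup.of_card (p := 2) (n := 2) (G := E) hE.card_four).exists_le_sylow
    obtain ⟨R, hR⟩ := Sylow.exists_subgroup_card_pow_prime 2 (G := K) (n := 3) (by rw [hK120]; norm_num)
    obtain ⟨Q, hQ⟩ := (IsPGroup.of_card (p := 2) (n := 3) (G := R.map K.subtype)
      (by rw [Subgroup.card_map_of_injective K.subtype_injective, hR])).exists_le_sylow
    have hQ8 : (Q : Subgroup G) = R.map K.subtype := (Subgroup.eq_of_le_of_card_ge hQ (by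
      rw [Subgroup.card_map_of_injective K.subtype_injective, hR, Q.card_eq_multiplicity, hg]
      refine Nat.pow_le_pow_right two_pos ?_
      by_contra hlt
      have h16 := (Nat.Prime.pow_dvd_iff_le_factorization Nat.prime_two (by norm_num : (175560 : ℕ) ≠ 0)).2
        (show 4 ≤ (175560 : ℕ).factorization 2 by omega)
      norm_num at h16)).symm
    obtain ⟨g, hgT⟩ := MulAction.exists_smul_eq G T Q
    have hin : ∀ w ∈ E, g * w * g⁻¹ ∈ K := fun w hw => by
      have hwQ : g * w * g⁻¹ ∈ (Q : Subgroup G) := by
        rw [← hgT, Sylow.coe_subgroup_smul]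
        exact ⟨w, hT hw, rfl⟩
      rw [hQ8] at hwQ
      obtain ⟨r, -, hr⟩ := hwQ
      exact hr ▸ r.2
    obtain ⟨w, hw, hw1, hwu⟩ : ∃ w ∈ E, w ≠ 1 ∧ g * w * g⁻¹ ≠ u := by
      haveI := Fintype.ofFinite E
      have h4 : 2 < Fintype.card E := by rw [← Nat.card_eq_fintype_card, hE.card_four]; norm_num
      obtain ⟨a, b, c, hab, hac, hbc⟩ := Fintype.two_lt_card_iff.1 h4
      by_contra hno
      push Not at hno
      have key : ∀ w : E, w = 1 ∨ (w : G) = g⁻¹ * u * g := fun w => by
        rcases eq_or_ne (w : G) 1 with h | h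
        · exact Or.inl (Subtype.ext h)
        · right
          have := hno w w.2 h
          rw [← this]; group
      rcases key a with ha | ha <;> rcases key b with hb | hb <;> rcases key c with hc | hc
      all_goals first
        | exact hab (ha.trans hb.symm)
        | exact hac (ha.trans hc.symm)
        | exact hbc (hb.trans hc.symm)
        | exact hab (Subtype.ext (ha.trans hb.symm))
        | exact hac (Subtype.ext (ha.trans hc.symm))
        | exact hbc (Subtype.ext (hb.trans hc.symm))
    refine ⟨⟨g * w * g⁻¹, hin w hw⟩, ?_, fun h => hwu (congrArg Subtype.val h)⟩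
    rw [← Subgroup.orderOf_coe]
    refine ((MulAut.conj g).orderOf_eq w).trans (orderOf_eq_prime ?_ hw1)
    rw [sq]
    exact congrArg Subtype.val (IsKleinFour.mul_self (G := E) ⟨w, hw⟩)
  -- a Sylow 5-subgroup of the centralizer which is not normal
  obtain ⟨A, hA⟩ := Sylow.exists_subgroup_card_pow_prime 5 (G := K) (n := 1) (by rw [hK120]; norm_num)
  rw [pow_one] at hA
  have hnA : ¬ A.Normal := by
    intro hAn
    obtain ⟨P₅, n, e, c, ho, h5, hP₅, -, -, hN₅, -⟩ := exists_opt hg 5 35112 (by norm_num) rfl (by norm_num)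
    have hc19 : ¬ 19 ∣ c := fun h => by
      have := CZ.symm (p := 5) (q := 19) (by norm_num) (by norm_num) (by norm_num) (by rw [hg]; norm_num) h5 h19 h
      norm_num at this
    refine five_normal ho hc19 ?_
    obtain ⟨R, hR⟩ := (IsPGroup.of_card (p := 5) (n := 1) (G := A.map K.subtype)
      (by rw [Subgroup.card_map_of_injective K.subtype_injective, hA, pow_one])).exists_le_sylow
    have hRe : A.map K.subtype = (R : Subgroup G) := Subgroup.eq_of_le_of_card_ge hR (by
      rw [Subgroup.card_map_of_injective K.subtype_injective, hA, R.card_eq_multiplicity,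
        ← P₅.card_eq_multiplicity, hP₅])
    have hKN : K ≤ Subgroup.normalizer ((R : Subgroup G) : Set G) := by
      have hmap := Subgroup.le_normalizer_map (H := A) K.subtype
      rw [← hRe]
      refine le_trans ?_ hmap
      intro k hk
      refine ⟨⟨k, hk⟩, ?_, rfl⟩
      rw [Subgroup.normalizer_eq_top]
      exact Subgroup.mem_top _
    have h := Subgroup.card_dvd_of_le hKN
    rwa [hK120, CfsgLib.Perm.SylowPrime.card_normalizer_sylow R P₅, hN₅] at h
  exact ⟨u, huo, iso_of_central hK120 (u := ⟨u, Subgroup.mem_centralizer_singleton_iff.2 rfl⟩)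
    (by rw [← Subgroup.orderOf_coe]; exact huo)
    (fun k => Subtype.ext (Subgroup.mem_centralizer_singleton_iff.1 k.2)) hvo hvu hA hnA⟩

end CfsgLib.Spor.J1Order
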