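import Mathlib

/-!
# Order 175560: Sylow data allowed by arithmetic
-/

set_option autoImplicit false

namespace CfsgLib.Spor.J1Order

/-- The divisors of `175560`. -/
def dl : List ℕ :=
  [1, 2, 4, 8].flatMap fun a => [1, 3].flatMap fun b => [1, 5].flatMap fun c => [1, 7].flatMap fun d =>
    [1, 11].flatMap fun e => [1, 19].map fun f => a * b * c * d * e * f

theorem mem_dl {d : ℕ} (h : d ∣ 175560) : d ∈ dl := by
  rw [show (175560 : ℕ) = 8 * 3 * 5 * 7 * 11 * 19 from rfl] at h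
  obtain ⟨x₅, f, h5, hf, rfl⟩ := Nat.dvd_mul.1 h
  obtain ⟨x₄, e, h4, he, rfl⟩ := Nat.dvd_mul.1 h5
  obtain ⟨x₃, d, h3, hd, rfl⟩ := Nat.dvd_mul.1 h4
  obtain ⟨x₂, c, h2, hc, rfl⟩ := Nat.dvd_mul.1 h3
  obtain ⟨a, b, ha, hb, rfl⟩ := Nat.dvd_mul.1 h2
  simp only [dl, List.mem_flatMap, List.mem_map, List.mem_cons, List.not_mem_nil, or_false]
  refine ⟨a, ?_, b, ?_, c, ?_, d, ?_, e, ?_, f, ?_, rfl⟩
  · obtain ⟨k, hk, rfl⟩ := (Nat.dvd_prime_pow Nat.prime_two (m := 3)).1 ha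
    interval_cases k <;> simp
  all_goals exact (Nat.dvd_prime (by norm_num)).1 (by assumption)

/-- `n` Sylow `p`-subgroups, automiser of order `e`, centralizer of order `p * c`. -/
structure Opt (p n e c : ℕ) : Prop where
  eq : n * (e * c) * p = 175560
  mod : n % p = 1
  gt : 1 < n
  dvd : e ∣ p - 1
  two : 2 ≤ e

/-- All candidates. -/
def opts (p : ℕ) : List (ℕ × ℕ × ℕ) :=
  (((List.range p).flatMap fun e => dl.map fun c => (175560 / (e * c * p), e, c)).filter fun o =>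
    (o.1 * (o.2.1 * o.2.2) * p == 175560) && (o.1 % p == 1) && decide (1 < o.1) &&
      decide (2 ≤ o.2.1) && ((p - 1) % o.2.1 == 0))

theorem Opt.mem {p n e c : ℕ} (h : Opt p n e c) : (n, e, c) ∈ opts p := by
  have h0 : 0 < p := by
    rcases Nat.eq_zero_or_pos p with rfl | h'
    · exact absurd h.eq (by simp)
    · exact h'
  have he : e < p := by
    rcases Nat.eq_or_lt_of_le (show 1 ≤ p from h0) with rfl | h'
    · have := h.mod; omega
    · have := Nat.le_of_dvd (by omega) h.dvd; omega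
  have hecp : 0 < e * c * p := by
    have := h.eq
    rcases Nat.eq_zero_or_pos (e * c * p) with h' | h'
    · rw [mul_assoc, h', mul_zero] at this; simp at this
    · exact h'
  have hn : 175560 / (e * c * p) = n := by
    rw [← h.eq, show n * (e * c) * p = n * (e * c * p) by ring, Nat.mul_div_cancel _ hecp]
  simp only [opts, List.mem_filter, List.mem_flatMap, List.mem_map, List.mem_range, Bool.and_eq_true,
    beq_iff_eq, decide_eq_true_eq]
  refine ⟨⟨e, he, c, mem_dl ⟨n * e * p, by rw [← h.eq]; ring⟩, by rw [hn]⟩, ?_⟩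
  exact ⟨⟨⟨⟨h.eq, h.mod⟩, h.gt⟩, h.two⟩, Nat.mod_eq_zero_of_dvd h.dvd⟩

theorem nineteen_check : (opts 19).all (fun o =>
    (o.1 == 20 && o.2.2 % 7 == 0) || (o.1 == 77 && o.2.2 % 5 == 0) || o == (210, 2, 22) ||
      o == (1540, 2, 3) || o == (1540, 3, 2) || o == (1540, 6, 1)) = true := by decide +kernel

theorem nineteen_cases {n e c : ℕ} (h : Opt 19 n e c) :
    (n = 20 ∧ 7 ∣ c) ∨ (n = 77 ∧ 5 ∣ c) ∨ (n = 210 ∧ e = 2 ∧ c = 22) ∨
      (n = 1540 ∧ e = 2 ∧ c = 3) ∨ (n = 1540 ∧ e = 3 ∧ c = 2) ∨ (n = 1540 ∧ e = 6 ∧ c = 1) := by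
  have := List.all_eq_true.1 nineteen_check _ h.mem
  simp only [Bool.or_eq_true, Bool.and_eq_true, beq_iff_eq, Prod.mk.injEq, ← Nat.dvd_iff_mod_eq_zero,
    or_assoc] at this
  exact this

theorem three_check : (opts 3).all (fun o => o.2.2 != 38) = true := by decide +kernel

theorem three_ne {n e c : ℕ} (h : Opt 3 n e c) : c ≠ 38 := by
  have := List.all_eq_true.1 three_check _ h.mem
  simpa using this

theorem seven_check : (opts 7).all (fun o => o.2.2 % 3 == 0 || o.2.2 % 19 == 0 || o.2.2 % 5 == 0 ||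
    o.2.2 % 11 == 0 || o == (4180, 3, 2) || o == (4180, 6, 1)) = true := by decide +kernel

theorem seven_cases {n e c : ℕ} (h : Opt 7 n e c) (h3 : ¬ 3 ∣ c) (h19 : ¬ 19 ∣ c) :
    5 ∣ c ∨ 11 ∣ c ∨ (n = 4180 ∧ e = 3 ∧ c = 2) ∨ (n = 4180 ∧ e = 6 ∧ c = 1) := by
  have := List.all_eq_true.1 seven_check _ h.mem
  simp only [Bool.or_eq_true, beq_iff_eq, Prod.mk.injEq, ← Nat.dvd_iff_mod_eq_zero, or_assoc] at this
  rcases this with h' | h' | h'
  · exact absurd h' h3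
  · exact absurd h' h19
  · exact h'

theorem five_check : (opts 5).all (fun o => o.2.2 % 3 == 0 || o.2.2 % 19 == 0 ||
    ((o.2.2 % 7 != 0) && (o.2.2 % 2 != 0))) = true := by decide +kernel

theorem five_no_seven {n e c : ℕ} (h : Opt 5 n e c) (h3 : ¬ 3 ∣ c) (h19 : ¬ 19 ∣ c) :
    ¬ 7 ∣ c ∧ ¬ 2 ∣ c := by
  have := List.all_eq_true.1 five_check _ h.mem
  simp only [Bool.or_eq_true, Bool.and_eq_true, beq_iff_eq, bne_iff_ne, ne_eq,
    ← Nat.dvd_iff_mod_eq_zero, or_assoc] at this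
  rcases this with h' | h' | h'
  · exact absurd h' h3
  · exact absurd h' h19
  · exact h'

theorem eleven_check : (opts 11).all (fun o => o.2.2 % 3 == 0 || o.2.2 % 19 == 0 ||
    ((o.2.2 % 7 != 0) && ((o.2.2 % 2 != 0) || o == (1596, 5, 2)))) = true := by decide +kernel

theorem eleven_cases {n e c : ℕ} (h : Opt 11 n e c) (h3 : ¬ 3 ∣ c) (h19 : ¬ 19 ∣ c) :
    ¬ 7 ∣ c ∧ (¬ 2 ∣ c ∨ (n = 1596 ∧ e = 5 ∧ c = 2)) := by
  have := List.all_eq_true.1 eleven_check _ h.mem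
  simp only [Bool.or_eq_true, Bool.and_eq_true, beq_iff_eq, bne_iff_ne, ne_eq, Prod.mk.injEq,
    ← Nat.dvd_iff_mod_eq_zero, or_assoc] at this
  rcases this with h' | h' | h'
  · exact absurd h' h3
  · exact absurd h' h19
  · exact h'

theorem five_normal_check : (opts 5).all (fun o =>
    o.2.2 % 19 == 0 || (o.2.1 * (5 * o.2.2)) % 120 != 0) = true := by decide +kernel

theorem five_normal {n e c : ℕ} (h : Opt 5 n e c) (h19 : ¬ 19 ∣ c) : ¬ 120 ∣ e * (5 * c) := by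
  have := List.all_eq_true.1 five_normal_check _ h.mem
  simp only [Bool.or_eq_true, beq_iff_eq, bne_iff_ne, ne_eq, ← Nat.dvd_iff_mod_eq_zero] at this
  exact this.resolve_left h19

theorem two_part_check : dl.all (fun d => d % 3 == 0 || d % 5 == 0 || d % 7 == 0 || d % 11 == 0 ||
    d % 19 == 0 || d == 1 || d == 2 || d == 4 || d == 8) = true := by decide +kernel

theorem two_part {d : ℕ} (h : d ∣ 175560) (h3 : ¬ 3 ∣ d) (h5 : ¬ 5 ∣ d) (h7 : ¬ 7 ∣ d)
    (h11 : ¬ 11 ∣ d) (h19 : ¬ 19 ∣ d) : d = 1 ∨ d = 2 ∨ d = 4 ∨ d = 8 := by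
  have := List.all_eq_true.1 two_part_check _ (mem_dl h)
  simp only [Bool.or_eq_true, beq_iff_eq, ← Nat.dvd_iff_mod_eq_zero, or_assoc] at this
  tauto

theorem cs_check : (List.range 482).all (fun c => c % 2 != 0 || 9240 % c != 0 ||
    ([2, 4, 6, 8, 10, 12, 14, 20, 22, 24, 28, 30, 40, 42, 44, 56, 60, 66, 70, 84, 88, 110, 120, 132,
      140, 154, 168, 210, 220, 264, 280, 308, 330, 420, 440, 462] : List ℕ).contains c) = true := by
  decide +kernel

end CfsgLib.Spor.J1Order
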