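import Cfsg.Agent.Lib.Perm.Small.NineteenNormal
import Cfsg.Agent.Lib.Perm.Small.InvolutionShape
import Cfsg.Agent.Lib.Spor.J1Order.Arith

/-!
# Order 175560: centralizers of elements of prime order, fixed Sylow subgroups
-/

set_option autoImplicit false
set_option linter.unusedSectionVars false

namespace CfsgLib.Spor.J1Order

open Cfsg CfsgLib.Perm.PrimeBlock
open scoped Pointwise

variable {G : Type*} [Group G] [Finite G]

/-- All elements of order `p` have centralizers of order `p * c`. -/
def CZ (G : Type*) [Group G] (p c : ℕ) : Prop :=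
  ∀ a : G, orderOf a = p → Nat.card (Subgroup.centralizer ({a} : Set G)) = p * c

theorem centralizer_zpowers (a : G) :
    Subgroup.centralizer ((Subgroup.zpowers a : Subgroup G) : Set G) = Subgroup.centralizer ({a} : Set G) := by
  rw [Subgroup.zpowers_eq_closure, Subgroup.centralizer_closure]

theorem cz_of_sylow {p c : ℕ} [Fact p.Prime] (P : Sylow p G) (hP : Nat.card (P : Subgroup G) = p)
    (hC : Nat.card (Subgroup.centralizer ((P : Subgroup G) : Set G)) = p * c) : CZ G p c := by
  intro a ha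
  obtain ⟨R, hR⟩ := (IsPGroup.of_card (p := p) (n := 1) (G := Subgroup.zpowers a)
    (by rw [Nat.card_zpowers, ha, pow_one])).exists_le_sylow
  have hRe : Subgroup.zpowers a = (R : Subgroup G) := Subgroup.eq_of_le_of_card_ge hR (by
    rw [Nat.card_zpowers, ha, R.card_eq_multiplicity, ← P.card_eq_multiplicity, hP])
  rw [← centralizer_zpowers, hRe, CfsgLib.Perm.SylowPrime.card_centralizer_sylow R P, hC]

theorem card_centralizer_pos (a : G) : 0 < Nat.card (Subgroup.centralizer ({a} : Set G)) := Nat.card_pos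

/-- Commuting elements of orders `p`, `q` give `p ∣ d`. -/
theorem CZ.dvd_of_commute {p q d : ℕ} (hp : p.Prime) (hq : q.Prime) (hne : p ≠ q) (hd : CZ G q d)
    {a b : G} (ha : orderOf a = p) (hb : orderOf b = q) (hc : Commute a b) : p ∣ d := by
  have h := Subgroup.orderOf_dvd_natCard (Subgroup.centralizer ({b} : Set G))
    (x := a) (Subgroup.mem_centralizer_singleton_iff.2 hc)
  rw [ha, hd b hb] at h
  exact (hp.dvd_mul.1 h).resolve_left fun h' => hne ((Nat.prime_dvd_prime_iff_eq hp hq).1 h')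

/-- An element of prime order `q` in a centralizer. -/
theorem exists_commuting {q : ℕ} [Fact q.Prime] {a : G}
    (h : q ∣ Nat.card (Subgroup.centralizer ({a} : Set G))) : ∃ b : G, orderOf b = q ∧ Commute b a := by
  obtain ⟨b, hb⟩ := exists_prime_orderOf_dvd_card' (G := Subgroup.centralizer ({a} : Set G)) q h
  exact ⟨b, by rw [Subgroup.orderOf_coe, hb], Subgroup.mem_centralizer_singleton_iff.1 b.2⟩

/-- The symmetry of the commuting relation on primes. -/
theorem CZ.symm {p q c d : ℕ} (hp : p.Prime) (hq : q.Prime) (hne : p ≠ q) (hpG : p ∣ Nat.card G)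
    (hc : CZ G p c) (hd : CZ G q d) (h : q ∣ c) : p ∣ d := by
  haveI := Fact.mk hp
  haveI := Fact.mk hq
  obtain ⟨a, ha⟩ := exists_prime_orderOf_dvd_card' (G := G) p hpG
  obtain ⟨b, hb, hcomm⟩ := exists_commuting (q := q) (a := a) (hc a ha ▸ dvd_mul_of_dvd_right h p)
  exact hd.dvd_of_commute hp hq hne ha hb hcomm.symm

/-- The Sylow subgroups fixed by `t`, modulo those fixed also by a commuting element of order `r`. -/
theorem fix_modEq {p r : ℕ} [Fact r.Prime] {t y : G} (hty : Commute t y) (hy : orderOf y = r) :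
    Nat.card {R : Sylow p G // t • R = R} ≡ Nat.card {R : Sylow p G // t • R = R ∧ y • R = R} [MOD r] := by
  classical
  have hY : IsPGroup r (Subgroup.zpowers y) :=
    IsPGroup.of_card (n := 1) (by rw [Nat.card_zpowers, hy, pow_one])
  letI : MulAction (Subgroup.zpowers y) {R : Sylow p G // t • R = R} :=
    { smul := fun k R => ⟨(k : G) • R.1, by
        obtain ⟨i, hi⟩ := k.2
        have hk : t * (k : G) = (k : G) * t := hi ▸ (hty.zpow_right i).eq
        rw [← mul_smul, hk, mul_smul, R.2]⟩
      one_smul := fun R => Subtype.ext (one_smul G R.1)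
      mul_smul := fun a b R => Subtype.ext (mul_smul (a : G) (b : G) R.1) }
  refine (hY.card_modEq_card_fixedPoints {R : Sylow p G // t • R = R}).trans ?_
  rw [show Nat.card (MulAction.fixedPoints (Subgroup.zpowers y) {R : Sylow p G // t • R = R}) =
    Nat.card {R : Sylow p G // t • R = R ∧ y • R = R} from Nat.card_congr ?_]
  refine
    { toFun := fun R => ⟨R.1.1, R.1.2,
        congrArg Subtype.val (MulAction.mem_fixedPoints.1 R.2 ⟨y, Subgroup.mem_zpowers y⟩)⟩
      invFun := fun R => ⟨⟨R.1, R.2.1⟩, fun k => Subtype.ext ?_⟩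
      left_inv := fun R => rfl
      right_inv := fun R => rfl }
  show (k : G) • R.1 = R.1
  exact MulAction.mem_stabilizer_iff.1
    ((Subgroup.zpowers_le.2 (MulAction.mem_stabilizer_iff.2 R.2.2) : Subgroup.zpowers y ≤
      MulAction.stabilizer G R.1) k.2)

theorem fix_card_modEq {p r : ℕ} [Fact r.Prime] {y : G} (hy : orderOf y = r) :
    Nat.card (Sylow p G) ≡ Nat.card {R : Sylow p G // y • R = R} [MOD r] := by
  have h := fix_modEq (p := p) (t := (1 : G)) (Commute.one_left y) hy
  simp only [one_smul, true_and] at h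
  rwa [Nat.card_congr (Equiv.subtypeUnivEquiv (p := fun _ : Sylow p G => True) fun _ => trivial)] at h

/-- An element centralizing `P` fixes one mod `p` Sylow subgroups. -/
theorem fix_mod_self {p : ℕ} [hp : Fact p.Prime] {P : Sylow p G} (hP : Nat.card (P : Subgroup G) = p)
    {t : G} (ht : t ∈ Subgroup.centralizer ((P : Subgroup G) : Set G)) :
    Nat.card {R : Sylow p G // t • R = R} % p = 1 := by
  obtain ⟨x', hx'⟩ := exists_prime_orderOf_dvd_card' (G := (P : Subgroup G)) p (by rw [hP])
  have hxo : orderOf (x' : G) = p := by rw [Subgroup.orderOf_coe, hx']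
  have hx1 : (x' : G) ≠ 1 := fun h => by rw [h, orderOf_one] at hxo; exact hp.out.one_lt.ne hxo
  have hcomm : Commute t (x' : G) := (Subgroup.mem_centralizer_iff.1 ht x' x'.2).symm
  have h := fix_modEq (p := p) hcomm hxo
  have h1 : Nat.card {R : Sylow p G // t • R = R ∧ (x' : G) • R = R} = 1 := by
    rw [Nat.card_eq_one_iff_unique]
    refine ⟨⟨fun A B => Subtype.ext ?_⟩, ⟨⟨P, ?_, ?_⟩⟩⟩
    · rw [CfsgLib.Perm.SylowPrime.eq_of_fix hP x'.2 hx1 A.2.2,
        CfsgLib.Perm.SylowPrime.eq_of_fix hP x'.2 hx1 B.2.2]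
    · exact Sylow.smul_eq_iff_mem_normalizer.2 (Subgroup.centralizer_le_normalizer _ ht)
    · exact Sylow.smul_eq_iff_mem_normalizer.2 (Subgroup.le_normalizer x'.2)
  rw [h1, Nat.ModEq, Nat.mod_eq_of_lt hp.out.one_lt] at h
  exact h

/-- A non-trivial element does not fix every Sylow subgroup. -/
theorem fix_lt [IsSimpleGroup G] {p : ℕ} [Fact p.Prime] (hn : 1 < Nat.card (Sylow p G)) {t : G} (ht : t ≠ 1) :
    Nat.card {R : Sylow p G // t • R = R} < Nat.card (Sylow p G) := by
  classical
  haveI := Fintype.ofFinite (Sylow p G)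
  rw [Nat.card_eq_fintype_card, Nat.card_eq_fintype_card]
  obtain ⟨R, hR⟩ : ∃ R : Sylow p G, ¬ t • R = R := by
    by_contra h
    push Not at h
    exact ht (CfsgLib.Perm.SylowPrime.eq_one_of_fix_all hn h)
  exact Fintype.card_subtype_lt hR

variable [IsSimpleGroup G]

theorem not_comm (hg : Nat.card G = 175560) : ¬ IsMulCommutative G := fun hc => by
  haveI := hc
  letI : CommGroup G :=
    { (inferInstance : Group G) with mul_comm := fun a b => IsMulCommutative.is_comm.comm a b }
  have := hg ▸ (IsSimpleGroup.prime_card (α := G))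
  norm_num at this

theorem center_eq_bot (hg : Nat.card G = 175560) : Subgroup.center G = ⊥ :=
  (IsSimpleGroup.eq_bot_or_eq_top_of_normal _ inferInstance).resolve_right fun h =>
    not_comm hg ⟨⟨fun a b => (Subgroup.mem_center_iff.1 (h ▸ Subgroup.mem_top a : a ∈ Subgroup.center G) b).symm⟩⟩

theorem centralizer_ne_top (hg : Nat.card G = 175560) {a : G} (ha : a ≠ 1) :
    Subgroup.centralizer ({a} : Set G) ≠ ⊤ := fun h => by
  have : a ∈ Subgroup.center G := Subgroup.mem_center_iff.2 fun b =>
    Subgroup.mem_centralizer_singleton_iff.1 (h ▸ Subgroup.mem_top b)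
  rw [center_eq_bot hg, Subgroup.mem_bot] at this
  exact ha this

/-- A proper subgroup containing a Sylow 19-subgroup normalizes it. -/
theorem le_normalizer_nineteen (hg : Nat.card G = 175560) [Fact (Nat.Prime 19)] (P : Sylow 19 G)
    (hP : Nat.card (P : Subgroup G) = 19) {K : Subgroup G} (hK : K ≠ ⊤) (hPK : (P : Subgroup G) ≤ K) :
    K ≤ Subgroup.normalizer ((P : Subgroup G) : Set G) := by
  obtain ⟨d, hd⟩ : 19 ∣ Nat.card K := hP ▸ Subgroup.card_dvd_of_le hPK
  have hdvd : d ∣ 9240 := by
    have h := Subgroup.card_subgroup_dvd_card K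
    rw [hd, hg, show (175560 : ℕ) = 19 * 9240 from rfl] at h
    exact Nat.dvd_of_mul_dvd_mul_left (by norm_num) h
  rcases CfsgLib.Perm.Nineteen.normal_or_simple d K hdvd hd with ⟨rfl, -⟩ | h
  · exact absurd (Subgroup.eq_top_of_card_eq K (by rw [hd, hg])) hK
  · haveI : ((P : Subgroup G).subgroupOf K).Normal := h (P.subtype hPK)
    exact (Subgroup.normal_subgroupOf_iff_le_normalizer hPK).1 inferInstance

/-- The Sylow data for an odd prime dividing the order. -/
theorem exists_opt [Fintype G] (hg : Nat.card G = 175560) (p m : ℕ) [Fact p.Prime] (hodd : p ≠ 2)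
    (hpm : 175560 = m * p) (hm : ¬ p ∣ m) :
    ∃ (P : Sylow p G) (n e c : ℕ), Opt p n e c ∧ CZ G p c ∧ Nat.card (P : Subgroup G) = p ∧
      n = Nat.card (Sylow p G) ∧
      Nat.card (Subgroup.centralizer ((P : Subgroup G) : Set G)) = p * c ∧
      Nat.card (Subgroup.normalizer ((P : Subgroup G) : Set G)) = e * (p * c) ∧
      Nonempty (Shape p e (P : Subgroup G)) := by
  obtain ⟨P, n, e, c, hP, hn, hn1, hn1', -, he2, hep, hC, hN, hnS, hS⟩ :=
    exists_data (not_comm hg) p m hodd (hg.trans hpm) hm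
  exact ⟨P, n, e, c, ⟨by rw [hn, hpm], hn1, hn1', hep, he2⟩, cz_of_sylow P hP hC, hP, hnS, hC, hN, hS⟩

/-- Centralizers of involutions have order divisible by four. -/
theorem four_dvd_centralizer (hg : Nat.card G = 175560) {t : G} (ht : orderOf t = 2) :
    4 ∣ Nat.card (Subgroup.centralizer ({t} : Set G)) := by
  haveI : Fact (Nat.Prime 2) := ⟨Nat.prime_two⟩
  obtain ⟨S, hS⟩ := (IsPGroup.of_card (p := 2) (n := 1) (G := Subgroup.zpowers t)
    (by rw [Nat.card_zpowers, ht, pow_one])).exists_le_sylow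
  obtain ⟨Q, hQ⟩ := Sylow.exists_subgroup_card_pow_prime 2 (G := G) (n := 3) (by rw [hg]; norm_num)
  have hS8 : 8 ∣ Nat.card (S : Subgroup G) := by
    obtain ⟨R, hR⟩ := (IsPGroup.of_card (p := 2) (n := 3) hQ).exists_le_sylow
    have h := Subgroup.card_dvd_of_le hR
    rw [hQ, R.card_eq_multiplicity, ← S.card_eq_multiplicity] at h
    simpa using h
  set C := Subgroup.centralizer ({t} : Set G)
  haveI : Nontrivial (S : Subgroup G) := Finite.one_lt_card_iff_nontrivial.1
    (by have := Nat.le_of_dvd Nat.card_pos hS8; omega)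
  haveI := S.2.center_nontrivial
  obtain ⟨z, hz⟩ := exists_ne (1 : Subgroup.center (S : Subgroup G))
  have htS : t ∈ (S : Subgroup G) := hS (Subgroup.mem_zpowers t)
  obtain ⟨k, hk⟩ := (S.2.to_le (inf_le_right : C ⊓ S ≤ S)).exists_card_eq
  have hdvd : Nat.card ↥(C ⊓ (S : Subgroup G)) ∣ Nat.card C := Subgroup.card_dvd_of_le inf_le_left
  by_cases hzt : ((z : (S : Subgroup G)) : G) = t
  · have hle : (S : Subgroup G) ≤ C := fun s hs => Subgroup.mem_centralizer_singleton_iff.2 (by
      have := congrArg Subtype.val (Subgroup.mem_center_iff.1 z.2 ⟨s, hs⟩)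
      simp only [Subgroup.coe_mul] at this
      rwa [hzt] at this)
    exact ((show (4 : ℕ) ∣ 8 by norm_num).trans hS8).trans (Subgroup.card_dvd_of_le hle)
  · have hzC : ((z : (S : Subgroup G)) : G) ∈ C ⊓ (S : Subgroup G) :=
      ⟨Subgroup.mem_centralizer_singleton_iff.2
        (congrArg Subtype.val (Subgroup.mem_center_iff.1 z.2 ⟨t, htS⟩)).symm, z.1.2⟩
    have htC : t ∈ C ⊓ (S : Subgroup G) := ⟨Subgroup.mem_centralizer_singleton_iff.2 rfl, htS⟩
    have ht1 : t ≠ 1 := fun h => by rw [h, orderOf_one] at ht; norm_num at ht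
    have hz1 : ((z : (S : Subgroup G)) : G) ≠ 1 := fun h => hz (Subtype.ext (Subtype.ext h))
    have h3 : 2 < Nat.card ↥(C ⊓ (S : Subgroup G)) := by
      classical
      haveI := Fintype.ofFinite ↥(C ⊓ (S : Subgroup G))
      rw [Nat.card_eq_fintype_card, Fintype.two_lt_card_iff]
      exact ⟨1, ⟨t, htC⟩, ⟨_, hzC⟩, fun h => ht1 (congrArg Subtype.val h).symm,
        fun h => hz1 (congrArg Subtype.val h).symm, fun h => hzt (congrArg Subtype.val h).symm⟩
    rw [hk] at h3 hdvd
    rcases k with _ | _ | k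
    · simp at h3
    · simp at h3
    · exact (Dvd.intro_left (2 ^ k) (by ring)).trans hdvd

end CfsgLib.Spor.J1Order
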