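import Mathlib
import Cfsg.Agent.Lib.Perm.Small.InvolutionTest

/-!
# Order 175560: the finite search for the order of an involution centralizer

The principal 19-block with `e = 6` gives five signed degrees, their values at an involution inverting
a Sylow 19-subgroup, and the class multiplication formula `c ^ 2 = 9240 + Σ (9240/s) S^2 - (9240/D) T^2`.
-/

set_option autoImplicit false

namespace CfsgLib.Spor.J1Order

open CfsgLib.Perm.PrimeBlock (combos)

/-- The admissible signed degrees, by increasing coefficient `9240 / s`. -/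
def degs : List ℤ := [-56, -132, 210, 77, 20]

/-- The values allowed for a signed degree. -/
def vals (s : ℤ) : List ℤ :=
  ((List.range 43).map fun i : ℕ => (i : ℤ) - 21).filter fun S =>
    decide (S.natAbs < s.natAbs) && ((S - s) % 4 == 0)

/-- The coefficient of the exceptional value. -/
def qc (D : ℤ) : ℤ := -(9240 / D)

/-- A bound for all remaining coefficients. -/
def kc (q : ℤ) (l : List ℤ) : ℤ := l.foldr (fun s k => max (9240 / s) k) (max 0 ((q + 2) / 3))

/-- The even divisors of 9240 below 482. -/
def csList : List ℤ :=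
  [2, 4, 6, 8, 10, 12, 14, 20, 22, 24, 28, 30, 40, 42, 44, 56, 60, 66, 70, 84, 88, 110, 120, 132,
    140, 154, 168, 210, 220, 264, 280, 308, 330, 420, 440, 462]

/-- Seven and eleven violate the congruence for defect zero characters. -/
def badFilter (c : ℤ) (ch : List (ℤ × ℤ)) : Bool :=
  ([7, 11] : List ℤ).any fun r =>
    (c % r == 0) && ch.any fun x => (x.1 % r == 0) && !(x.2 % r == 0)

/-- No further assignment can satisfy the equation. -/
def pruned (K sq acc : ℤ) : Bool :=
  if K ≤ 2 * sq then decide (9240 + acc < sq * sq) else decide (K * K + 4 * (9240 + acc) < 4 * K * sq)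

/-- The test at a complete assignment. -/
def leaf (D q sq sm acc : ℤ) (ch : List (ℤ × ℤ)) : Bool :=
  let T := 1 + sm
  !(decide (T.natAbs < D.natAbs) && ((T - D) % 4 == 0) &&
      decide ((sq + 3 * (T * T)) * (sq + 3 * (T * T)) ≤ 9240 + acc + q * (T * T))) ||
    csList.all fun c => !(9240 + acc + q * (T * T) == c * c) || (c == 120) || badFilter c ch

/-- The search. -/
def go (D q : ℤ) : List ℤ → ℤ → ℤ → ℤ → ℤ → ℤ → List (ℤ × ℤ) → Bool
  | [], _, _, sq, sm, acc, ch => leaf D q sq sm acc ch
  | s :: r, ps, pS, sq, sm, acc, ch =>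
    pruned (kc q (s :: r)) sq acc ||
      (vals s).all fun S => (decide (s = ps) && decide (S < pS)) ||
        go D q r s S (sq + S * S) (sm + S) (acc + 9240 / s * (S * S)) ((s, S) :: ch)

/-- The degree lists. -/
def dlists : List (List ℤ) :=
  (combos degs 5).filter fun l =>
    decide (3 ≤ (1 + l.sum).natAbs) && (9240 % (1 + l.sum).natAbs == 0) &&
      decide ((1 + l.sum).natAbs * (1 + l.sum).natAbs < 175560) && ((1 + l.sum) % 19 == 6)

/-- The whole search. -/
def searchOK : Bool :=
  dlists.all fun l => go (1 + l.sum) (qc (1 + l.sum)) l 0 0 1 0 0 []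

theorem searchOK_eq : searchOK = true := by decide +kernel

end CfsgLib.Spor.J1Order
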