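import Cfsg.Agent.Lib.Spor.J1Order.Search
import Cfsg.Agent.Lib.Spor.J1Order.Arith

/-!
# Order 175560: soundness of the search
-/

set_option autoImplicit false

namespace CfsgLib.Spor.J1Order

open CfsgLib.Perm.PrimeBlock (combos exists_combo)

theorem kc_nonneg (q : ℤ) (l : List ℤ) : 0 ≤ kc q l := by
  induction l with
  | nil => exact le_max_left _ _
  | cons a l ih => exact ih.trans (le_max_right _ _)

theorem q_le_kc (q : ℤ) (l : List ℤ) : q ≤ 3 * kc q l := by
  induction l with
  | nil =>
    have : (q + 2) / 3 ≤ kc q [] := le_max_right _ _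
    omega
  | cons a l ih =>
    have : kc q l ≤ kc q (a :: l) := le_max_right _ _
    omega

theorem coef_le_kc (q : ℤ) : ∀ (l : List ℤ), ∀ s ∈ l, 9240 / s ≤ kc q l := by
  intro l
  induction l with
  | nil => simp
  | cons a l ih =>
    intro s hs
    rcases List.mem_cons.1 hs with rfl | hs
    · exact le_max_left _ _
    · exact (ih s hs).trans (le_max_right _ _)

theorem sum_coef_le {K : ℤ} : ∀ X : List (ℤ × ℤ), (∀ x ∈ X, 9240 / x.1 ≤ K) →
    (X.map fun x => 9240 / x.1 * (x.2 * x.2)).sum ≤ K * (X.map fun x => x.2 * x.2).sum := by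
  intro X
  induction X with
  | nil => simp
  | cons a X ih =>
    intro h
    have h1 := ih fun x hx => h x (List.mem_cons_of_mem _ hx)
    have h2 := mul_le_mul_of_nonneg_right (h a (List.mem_cons_self ..)) (mul_self_nonneg a.2)
    simp only [List.map_cons, List.sum_cons, mul_add]
    linarith

theorem sum_sq_nonneg : ∀ X : List (ℤ × ℤ), 0 ≤ (X.map fun x => x.2 * x.2).sum := by
  intro X
  induction X with
  | nil => simp
  | cons a X ih =>
    simp only [List.map_cons, List.sum_cons]
    have := mul_self_nonneg a.2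
    linarith

theorem not_pruned {K sq acc x w : ℤ} (hK : 0 ≤ K) (hsq : 0 ≤ sq) (hx : 0 ≤ x)
    (h1 : (sq + x) * (sq + x) ≤ w) (h2 : w ≤ 9240 + acc + K * x) : pruned K sq acc = false := by
  unfold pruned
  split_ifs with h
  · simp only [decide_eq_false_iff_not, not_lt]
    nlinarith [mul_nonneg hx (sub_nonneg.2 h), mul_self_nonneg x]
  · simp only [decide_eq_false_iff_not, not_lt]
    nlinarith [mul_self_nonneg (2 * x + 2 * sq - K)]

theorem go_sound (D q : ℤ) : ∀ (l : List ℤ) (ps pS sq sm acc : ℤ) (ch X : List (ℤ × ℤ)),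
    go D q l ps pS sq sm acc ch = true → (X.map Prod.fst).Perm l → (∀ x ∈ X, x.2 ∈ vals x.1) →
    (∀ x ∈ X, x.1 = ps → pS ≤ x.2) → 0 ≤ sq →
    ∀ (T c : ℤ), T = 1 + (sm + (X.map Prod.snd).sum) → T.natAbs < D.natAbs → (T - D) % 4 = 0 →
      sq + (X.map fun x => x.2 * x.2).sum + 3 * (T * T) ≤ c →
      9240 + (acc + (X.map fun x => 9240 / x.1 * (x.2 * x.2)).sum) + q * (T * T) = c * c →
      c ∈ csList →
      (∀ r ∈ ([7, 11] : List ℤ), c % r = 0 → ∀ x ∈ ch ++ X, x.1 % r = 0 → x.2 % r = 0) → c = 120 := by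
  intro l
  induction l with
  | nil =>
    intro ps pS sq sm acc ch X hgo hperm _ _ hsq T c hT hlt h4 hN heq hc hgood
    have hX : X = [] := List.map_eq_nil_iff.1 hperm.eq_nil
    subst hX
    simp only [List.map_nil, List.sum_nil, add_zero] at hT hN heq
    subst hT
    have hge : (sq + 3 * ((1 + sm) * (1 + sm))) * (sq + 3 * ((1 + sm) * (1 + sm))) ≤
        9240 + acc + q * ((1 + sm) * (1 + sm)) := by
      rw [heq]
      have h0 : 0 ≤ sq + 3 * ((1 + sm) * (1 + sm)) := by
        have := mul_self_nonneg (1 + sm); linarith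
      exact mul_le_mul hN hN h0 (h0.trans hN)
    simp only [go, leaf, Bool.or_eq_true, Bool.not_eq_true', Bool.and_eq_false_iff,
      decide_eq_false_iff_not, beq_eq_false_iff_ne, ne_eq] at hgo
    rcases hgo with ((h | h) | h) | h
    · exact absurd hlt h
    · exact absurd h4 h
    · exact absurd hge h
    · have hcs := List.all_eq_true.1 h c hc
      simp only [Bool.or_eq_true, Bool.not_eq_true', beq_eq_false_iff_ne, ne_eq, beq_iff_eq] at hcs
      rcases hcs with (h' | h') | h'
      · exact absurd heq h'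
      · exact h'
      · exfalso
        simp only [badFilter, List.any_eq_true, Bool.and_eq_true, beq_iff_eq, Bool.not_eq_true',
          beq_eq_false_iff_ne, ne_eq] at h'
        obtain ⟨r, hr, hcr, x, hx, hx1, hx2⟩ := h'
        exact hx2 (hgood r hr hcr x (List.mem_append_left _ hx) hx1)
  | cons s r ih =>
    intro ps pS sq sm acc ch X hgo hperm hvals hprev hsq T c hT hlt h4 hN heq hc hgood
    simp only [go, Bool.or_eq_true] at hgo
    rcases hgo with hp | hall
    · exfalso
      have hK := kc_nonneg q (s :: r)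
      have hle : (X.map fun x => 9240 / x.1 * (x.2 * x.2)).sum ≤
          kc q (s :: r) * (X.map fun x => x.2 * x.2).sum :=
        sum_coef_le X fun x hx => coef_le_kc q _ _ (hperm.subset (List.mem_map_of_mem hx))
      have hTT := mul_self_nonneg T
      have hq : q * (T * T) ≤ kc q (s :: r) * (3 * (T * T)) := by
        have := mul_le_mul_of_nonneg_right (q_le_kc q (s :: r)) hTT
        linarith
      have hx0 : 0 ≤ (X.map fun x => x.2 * x.2).sum + 3 * (T * T) := by
        have := sum_sq_nonneg X; linarith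
      have hN' : sq + ((X.map fun x => x.2 * x.2).sum + 3 * (T * T)) ≤ c := by linarith
      rw [not_pruned (w := c * c) hK hsq hx0 (mul_le_mul hN' hN' (by linarith) (by linarith))
        (by rw [← heq]; linarith)] at hp
      exact absurd hp Bool.false_ne_true
    · obtain ⟨y, hy, hymin⟩ : ∃ y ∈ X.filter (fun x => x.1 == s), ∀ x ∈ X, x.1 = s → y.2 ≤ x.2 := by
        have hs : s ∈ X.map Prod.fst := hperm.symm.subset (List.mem_cons_self ..)
        obtain ⟨x0, hx0, hx0s⟩ := List.mem_map.1 hs
        obtain ⟨y, hy, hmin⟩ := Finset.exists_min_image (X.filter fun x => x.1 == s).toFinset Prod.snd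
          ⟨x0, List.mem_toFinset.2 (List.mem_filter.2 ⟨hx0, by simp [hx0s]⟩)⟩
        exact ⟨y, List.mem_toFinset.1 hy, fun x hx hxs =>
          hmin x (List.mem_toFinset.2 (List.mem_filter.2 ⟨hx, by simp [hxs]⟩))⟩
      obtain ⟨hyX, hys⟩ := List.mem_filter.1 hy
      rw [beq_iff_eq] at hys
      obtain ⟨a, b⟩ := y
      simp only at hys hymin
      subst hys
      have hp' := List.perm_cons_erase hyX
      have h := List.all_eq_true.1 hall b (hvals _ hyX)
      simp only [Bool.or_eq_true, Bool.and_eq_true, decide_eq_true_eq] at h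
      rcases h with ⟨h1, h2⟩ | h
      · exact absurd (hprev _ hyX h1) (not_le.2 h2)
      · have e1 := (hp'.map Prod.snd).sum_eq
        have e2 := (hp'.map fun x => x.2 * x.2).sum_eq
        have e3 := (hp'.map fun x => 9240 / x.1 * (x.2 * x.2)).sum_eq
        simp only [List.map_cons, List.sum_cons] at e1 e2 e3
        refine ih a b (sq + b * b) (sm + b) (acc + 9240 / a * (b * b)) ((a, b) :: ch) (X.erase (a, b)) h
          ?_ (fun x hx => hvals x (List.mem_of_mem_erase hx))
          (fun x hx hxa => hymin x (List.mem_of_mem_erase hx) hxa)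
          (by have := mul_self_nonneg b; linarith) T c ?_ hlt h4 ?_ ?_ hc ?_
        · have := (hp'.map Prod.fst).symm.trans hperm
          rw [List.map_cons] at this
          exact List.Perm.cons_inv this
        · rw [hT, e1]; ring
        · linarith
        · rw [← heq, e3]; ring
        · intro r' hr' hcr x hx hx1
          refine hgood r' hr' hcr x ?_ hx1
          rcases List.mem_append.1 hx with hx | hx
          · rcases List.mem_cons.1 hx with rfl | hx
            · exact List.mem_append_right _ hyX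
            · exact List.mem_append_left _ hx
          · exact List.mem_append_right _ (List.mem_of_mem_erase hx)

/-- Twenty-one bounds the values, 481 the centralizer. -/
theorem le_of_sq_le {c : ℤ} (h : c * c ≤ 9240 + 462 * c) : c ≤ 481 := by
  nlinarith

/-- The outcome of the search. -/
theorem eq_120_of_data {ι : Type*} [DecidableEq ι] (X : Finset ι) (f v : ι → ℤ) (c : ℕ) (T : ℤ)
    (hcard : X.card = 5) (hf : ∀ i ∈ X, f i ∈ degs)
    (hD3 : 3 ≤ (1 + ∑ i ∈ X, f i).natAbs) (hDd : 9240 % (1 + ∑ i ∈ X, f i).natAbs = 0)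
    (hDsq : (1 + ∑ i ∈ X, f i).natAbs * (1 + ∑ i ∈ X, f i).natAbs < 175560)
    (hD19 : (1 + ∑ i ∈ X, f i) % 19 = 6)
    (hv : ∀ i ∈ X, (v i).natAbs < (f i).natAbs ∧ (v i - f i) % 4 = 0)
    (hT : T = 1 + ∑ i ∈ X, v i) (hTlt : T.natAbs < (1 + ∑ i ∈ X, f i).natAbs)
    (hT4 : (T - (1 + ∑ i ∈ X, f i)) % 4 = 0)
    (hN : 1 + ∑ i ∈ X, v i * v i + 3 * (T * T) ≤ (c : ℤ))
    (heq : 9240 + ∑ i ∈ X, 9240 / f i * (v i * v i) + qc (1 + ∑ i ∈ X, f i) * (T * T) = (c : ℤ) * c)
    (hc2 : 2 ∣ c) (hcm : c ∣ 9240)
    (hgood : ∀ r ∈ ([7, 11] : List ℤ), (c : ℤ) % r = 0 → ∀ i ∈ X, f i % r = 0 → v i % r = 0) :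
    c = 120 := by
  obtain ⟨X', hX'perm, hX'mem⟩ := exists_combo f degs X.toList fun i hi => hf i (Finset.mem_toList.1 hi)
  rw [Finset.length_toList, hcard] at hX'mem
  have hmem : ∀ i ∈ X', i ∈ X := fun i hi => Finset.mem_toList.1 (hX'perm.mem_iff.1 hi)
  have hsum : ∀ g : ι → ℤ, (X'.map g).sum = ∑ i ∈ X, g i := fun g => by
    rw [(hX'perm.map g).sum_eq, Finset.sum_map_toList]
  have hl : (X'.map f) ∈ dlists := by
    simp only [dlists, List.mem_filter, hX'mem, true_and, Bool.and_eq_true, decide_eq_true_eq,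
      beq_iff_eq, hsum]
    exact ⟨⟨⟨hD3, hDd⟩, hDsq⟩, hD19⟩
  have hgo := List.all_eq_true.1 searchOK_eq _ hl
  rw [hsum] at hgo
  -- the bound on the centralizer
  have hcoef : ∀ d ∈ degs, 9240 / d ≤ 462 := by decide
  have hQ : qc (1 + ∑ i ∈ X, f i) ≤ 3 * 462 := by
    have hchk : dlists.all (fun l => decide (qc (1 + l.sum) ≤ 3 * 462)) = true := by decide +kernel
    have := List.all_eq_true.1 hchk _ hl
    rwa [decide_eq_true_eq, hsum] at this
  have hS : ∑ i ∈ X, 9240 / f i * (v i * v i) ≤ 462 * ∑ i ∈ X, v i * v i := by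
    rw [Finset.mul_sum]
    exact Finset.sum_le_sum fun i hi =>
      mul_le_mul_of_nonneg_right (hcoef _ (hf i hi)) (mul_self_nonneg _)
  have hTT := mul_self_nonneg T
  have hc481 : (c : ℤ) ≤ 481 := by
    refine le_of_sq_le ?_
    rw [← heq]
    have := mul_le_mul_of_nonneg_right hQ hTT
    nlinarith
  have hvals : ∀ i ∈ X, v i ∈ vals (f i) := by
    intro i hi
    obtain ⟨h1, h2⟩ := hv i hi
    have hsq : v i * v i ≤ 480 := by
      have := Finset.single_le_sum (f := fun j => v j * v j) (fun j _ => mul_self_nonneg _) hi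
      linarith
    have hb : -21 ≤ v i ∧ v i ≤ 21 := by constructor <;> nlinarith
    simp only [vals, List.mem_filter, List.mem_map, List.mem_range, Bool.and_eq_true, decide_eq_true_eq,
      beq_iff_eq]
    exact ⟨⟨(v i + 21).toNat, by omega, by omega⟩, h1, h2⟩
  have hcs : (c : ℤ) ∈ csList := by
    have := List.all_eq_true.1 cs_check c (List.mem_range.2 (by omega))
    simp only [Bool.or_eq_true, bne_iff_ne, ne_eq, Nat.mod_eq_zero_of_dvd hc2,
      Nat.mod_eq_zero_of_dvd hcm, not_true, false_or, List.contains_iff_mem] at this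
    simp only [List.mem_cons, List.not_mem_nil, or_false] at this
    simp only [csList, List.mem_cons, List.not_mem_nil, or_false]
    omega
  have h := go_sound _ _ _ 0 0 1 0 0 [] (X'.map fun i => (f i, v i)) hgo
    (by simp [List.map_map, Function.comp_def])
    (fun x hx => by obtain ⟨i, hi, rfl⟩ := List.mem_map.1 hx; exact hvals i (hmem i hi))
    (fun x hx h0 => by
      obtain ⟨i, hi, rfl⟩ := List.mem_map.1 hx
      exfalso
      have := (hv i (hmem i hi)).1
      simp only at h0
      rw [h0] at this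
      simp at this)
    (by norm_num) T c
    (by rw [hT, List.map_map, hsum]; simp [Function.comp_def])
    hTlt hT4
    (by rw [List.map_map, hsum]; simpa [Function.comp_def] using hN)
    (by rw [List.map_map, hsum]; simpa [Function.comp_def] using heq)
    hcs
    (fun r hr hcr x hx hx1 => by
      rw [List.nil_append] at hx
      obtain ⟨i, hi, rfl⟩ := List.mem_map.1 hx
      exact hgood r hr hcr i (hmem i hi) hx1)
  exact_mod_cast h

end CfsgLib.Spor.J1Order
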