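import Mathlib
import Cfsg.Agent.Lib.Perm.Small.InvolutionTest

/-!
# Order 175560: a self-centralizing Sylow 7-subgroup and an involution centralizer of 2-power order
-/

set_option autoImplicit false

namespace CfsgLib.Spor.J1Order

open CfsgLib.Perm.PrimeBlock (assigns degLists goodAssignK)

/-- The test fails for centralizers of order 2, 4, 8. -/
def sevenOK : Bool :=
  (degLists 175560 25080 7 6 420).all fun l => ([2, 4, 8] : List ℕ).all fun c =>
    (assigns c l).all fun a => !goodAssignK 175560 7 6 7 c a

theorem sevenOK_eq : sevenOK = true := by decide +kernel

end CfsgLib.Spor.J1Order
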