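import Cfsg.Agent.Lib.Perm.Small.InvolutionShape
import Cfsg.Agent.Lib.Char.DefectZero
import Cfsg.Agent.Lib.Spor.J1Order.SearchSound

/-!
# Order 175560: character values at involutions
-/

set_option autoImplicit false
set_option linter.unusedSectionVars false
set_option linter.style.haveILetI false

namespace CfsgLib.Spor.J1Order

open Cfsg CfsgLib.Block CfsgLib.Perm.PrimeBlock
open scoped ComplexConjugate

variable {G : Type*} [Group G] [Finite G] [IsSimpleGroup G]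

/-- An involution inverting a self-centralizing subgroup of odd prime order with even automiser. -/
theorem exists_inverting {p e : ℕ} [Fact p.Prime] {P : Sylow p G} (hodd : p ≠ 2)
    (hP : Nat.card (P : Subgroup G) = p) (heven : Even e)
    (hC : Nat.card (Subgroup.centralizer ((P : Subgroup G) : Set G)) = p)
    (hN : Nat.card (Subgroup.normalizer ((P : Subgroup G) : Set G)) = e * p) :
    ∃ x u : G, x ∈ (P : Subgroup G) ∧ x ≠ 1 ∧ orderOf u = 2 ∧ u * u = 1 ∧ u * x * u = x⁻¹ := by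
  have hp : p.Prime := Fact.out
  set N := Subgroup.normalizer ((P : Subgroup G) : Set G) with hNdef
  obtain ⟨x', hx'⟩ := exists_prime_orderOf_dvd_card' (G := (P : Subgroup G)) p (by rw [hP])
  obtain ⟨x, hx, hxo⟩ : ∃ x ∈ (P : Subgroup G), orderOf x = p :=
    ⟨x', x'.2, by rw [Subgroup.orderOf_coe, hx']⟩
  have hx1 : x ≠ 1 := fun h => by rw [h, orderOf_one] at hxo; exact hp.one_lt.ne hxo
  obtain ⟨u', hu'⟩ := exists_prime_orderOf_dvd_card' (G := N) 2 (by
    rw [hN]; exact dvd_mul_of_dvd_left heven.two_dvd p)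
  obtain ⟨u, huN, huo⟩ : ∃ u ∈ N, orderOf u = 2 := ⟨u', u'.2, by rw [Subgroup.orderOf_coe, hu']⟩
  have hu2 : u * u = 1 := by rw [← sq, ← huo, pow_orderOf_eq_one]
  have huinv : u⁻¹ = u := inv_eq_of_mul_eq_one_right hu2
  have hconj : u * x * u ∈ (P : Subgroup G) := by
    have h := ((Subgroup.mem_normalizer_iff.1 huN) x).1 hx
    rwa [huinv] at h
  obtain ⟨k, hk⟩ : u * x * u ∈ Subgroup.zpowers x :=
    (CfsgLib.Perm.Small.zpowers_eq_of_mem hP hx hx1).symm ▸ hconj
  replace hk : x ^ k = u * x * u := hk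
  have hpk : ((k : ZMod p)) * k = 1 := by
    have h1 : x ^ (k * k) = x ^ (1 : ℤ) := by
      rw [zpow_one, zpow_mul, hk]
      have h2 : (u * x * u) ^ k = u * x ^ k * u := by
        conv_lhs => rw [show u * x * u = u * x * u⁻¹ by rw [huinv]]
        rw [conj_zpow, huinv]
      rw [h2, hk]
      calc u * (u * x * u) * u = (u * u) * x * (u * u) := by group
        _ = x := by rw [hu2]; group
    rw [zpow_eq_zpow_iff_modEq, hxo, ← ZMod.intCast_eq_intCast_iff] at h1
    push_cast at h1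
    exact h1
  refine ⟨x, u, hx, hx1, huo, hu2, ?_⟩
  rcases mul_self_eq_one_iff.1 hpk with hk1 | hk1
  · exfalso
    have h1 : x ^ k = x ^ (1 : ℤ) := zpow_eq_zpow_iff_modEq.2 (by
      rw [hxo, ← ZMod.intCast_eq_intCast_iff]; push_cast; exact hk1)
    rw [hk, zpow_one] at h1
    have hcom : Commute x u := by
      show x * u = u * x
      nth_rewrite 1 [← h1]
      rw [mul_assoc, hu2, mul_one]
    have h2 := Subgroup.orderOf_dvd_natCard _ (mem_of_commute_gen hP hC hx hx1 hcom)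
    rw [hP, huo] at h2
    exact hodd ((Nat.prime_dvd_prime_iff_eq Nat.prime_two hp).1 h2).symm
  · rw [← hk, ← zpow_neg_one]
    exact zpow_eq_zpow_iff_modEq.2 (by rw [hxo, ← ZMod.intCast_eq_intCast_iff]; push_cast; exact hk1)

/-- A character constant on `b ^ j * u`, `j` prime to `r`, has `χ u` congruent to this constant mod `r`. -/
theorem dvd_sub_of_const {r : ℕ} [Fact r.Prime] (hodd : r ≠ 2) (χ : IrrCharacter G) {b u : G}
    (hb : orderOf b = r) (hu : orderOf u = 2) (hcomm : Commute b u) {κ S : ℤ}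
    (hS : (χ : G → ℂ) u = S) (hκ : ∀ j, 1 ≤ j → j < r → (χ : G → ℂ) (b ^ j * u) = κ) :
    (r : ℤ) ∣ S - κ := by
  classical
  have hr : r.Prime := Fact.out
  obtain ⟨n, ρ, hρ, he⟩ := χ.2
  obtain ⟨β, μ, hμ, hβ, hpow⟩ := CfsgLib.Char.exists_eigen_data ρ (b * u)
  obtain ⟨h, hh⟩ := hr.odd_of_ne_two hodd
  have hord : orderOf (b * u) = r * 2 := by
    rw [hcomm.orderOf_mul_eq_mul_orderOf_of_coprime (by
      rw [hb, hu]; exact (Nat.coprime_primes hr Nat.prime_two).2 hodd), hb, hu]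
  have hbA : (b * u) ^ (r + 1) = b := by
    rw [hcomm.mul_pow, pow_succ b, ← hb, pow_orderOf_eq_one, one_mul, hb,
      show r + 1 = 2 * (h + 1) by omega, pow_mul u, ← hu, pow_orderOf_eq_one, one_pow, mul_one]
  have huB : (b * u) ^ r = u := by
    have h2 : u ^ 2 = 1 := by rw [← hu, pow_orderOf_eq_one]
    have hbr : b ^ r = 1 := by rw [← hb, pow_orderOf_eq_one]
    rw [hcomm.mul_pow, hbr, one_mul, hh, pow_succ, pow_mul, h2, one_pow, one_mul]
  have hval : ∀ j : ℕ, (χ : G → ℂ) (b ^ j * u) = ∑ i, (μ i ^ (r + 1)) ^ j * μ i ^ r := by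
    intro j
    have : b ^ j * u = (b * u) ^ ((r + 1) * j + r) := by rw [pow_add, pow_mul, hbA, huB]
    rw [← he, this, hpow]
    exact Finset.sum_congr rfl fun i _ => by rw [pow_add, pow_mul]
  have hlam : ∀ i, (μ i ^ (r + 1)) ^ r = 1 := fun i => by
    rw [← pow_mul, show (r + 1) * r = r * 2 * (h + 1) by rw [hh]; ring, pow_mul, ← hord, hμ, one_pow]
  have hnu : ∀ i, μ i ^ r = 1 ∨ μ i ^ r = -1 := fun i => sq_eq_one_iff.1 (by
    rw [← pow_mul, ← hord, hμ])
  have hint : ∀ i, ∃ z : ℤ, μ i ^ r = z := fun i => by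
    rcases hnu i with h | h
    · exact ⟨1, by simp [h]⟩
    · exact ⟨-1, by simp [h]⟩
  choose z hz using hint
  have hsum : ∑ j ∈ Finset.range r, (χ : G → ℂ) (b ^ j * u) =
      (((r : ℤ) * ∑ i ∈ Finset.univ.filter (fun i => μ i ^ (r + 1) = 1), z i : ℤ) : ℂ) := by
    simp only [hval]
    rw [Finset.sum_comm, Int.cast_mul, Int.cast_sum, Finset.mul_sum, Finset.sum_filter]
    refine Finset.sum_congr rfl fun i _ => ?_
    rw [← Finset.sum_mul]
    split_ifs with h1
    · simp [h1, hz i]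
    · rw [geom_sum_eq h1, hlam, sub_self, zero_div, zero_mul]
  obtain ⟨r', rfl⟩ : ∃ r', r = r' + 1 := ⟨r - 1, by have := hr.two_le; omega⟩
  rw [Finset.sum_range_succ', Finset.sum_congr rfl (g := fun _ => (κ : ℂ)) fun j hj =>
    hκ (j + 1) (by omega) (by have := Finset.mem_range.1 hj; omega), Finset.sum_const,
    Finset.card_range, pow_zero, one_mul, hS, nsmul_eq_mul] at hsum
  have hZ : (r' : ℤ) * κ + S =
      ((r' + 1 : ℕ) : ℤ) * ∑ i ∈ Finset.univ.filter (fun i => μ i ^ (r' + 1 + 1) = 1), z i := by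
    exact_mod_cast hsum
  refine ⟨(∑ i ∈ Finset.univ.filter (fun i => μ i ^ (r' + 1 + 1) = 1), z i) - κ, ?_⟩
  push_cast at hZ ⊢
  linarith

set_option maxHeartbeats 1000000 in
/-- The order of the centralizer of an involution inverting a Sylow 19-subgroup. -/
theorem card_centralizer_inverting [Fintype G] (hG : ¬ IsMulCommutative G) [Fact (Nat.Prime 19)]
    {P : Sylow 19 G} (S : Shape 19 6 (P : Subgroup G)) (hP : Nat.card (P : Subgroup G) = 19)
    (hg : Nat.card G = 175560)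
    (hC : Nat.card (Subgroup.centralizer ((P : Subgroup G) : Set G)) = 19)
    {x u : G} (hx : x ∈ (P : Subgroup G)) (hx1 : x ≠ 1) (huo : orderOf u = 2)
    (hinv : u * x * u = x⁻¹) (hc19 : ¬ 19 ∣ Nat.card (Subgroup.centralizer ({u} : Set G))) :
    Nat.card (Subgroup.centralizer ({u} : Set G)) = 120 := by
  classical
  have hp : Nat.Prime 19 := Fact.out
  haveI := Fintype.ofFinite (IrrCharacter G)
  have hgm : Nat.card G = 9240 * 19 := hg.trans (by norm_num)
  have hu2 : u * u = 1 := by rw [← sq, ← huo, pow_orderOf_eq_one]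
  have hdeg : ∀ χ : IrrCharacter G, (χ : G → ℂ) 1 = (charDegree (χ : G → ℂ) : ℂ) :=
    fun χ => (charDegree_eq χ).1
  have h1o : ¬ 19 ∣ orderOf (1 : G) := by rw [orderOf_one]; exact hp.not_dvd_one
  set c := Nat.card (Subgroup.centralizer ({u} : Set G)) with hc
  have hc2 : 2 ∣ c := by
    rw [← huo]
    exact Subgroup.orderOf_dvd_natCard _ (Subgroup.mem_centralizer_singleton_iff.2 rfl)
  have hcm : c ∣ 9240 := by
    have h : c ∣ 9240 * 19 := hgm ▸ Subgroup.card_subgroup_dvd_card _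
    exact ((hp.coprime_iff_not_dvd.2 hc19).symm).dvd_of_dvd_mul_right h
  have hne : ∀ χ : IrrCharacter G, χ ≠ oneChar G → (χ : G → ℂ) ≠ fun _ => 1 := fun χ h h' =>
    h (Subtype.ext h')
  have hXne : ∀ χ ∈ S.X, χ ≠ oneChar G := fun χ h h' => S.one_notMem_X (h' ▸ h)
  have hYne : ∀ θ ∈ S.Y, θ ≠ oneChar G := fun θ h h' => S.one_notMem_Y (h' ▸ h)
  choose r hr hrlt hr4 using fun χ : {χ : IrrCharacter G // χ ≠ oneChar G} =>
    involution_value hG χ.1 (hne _ χ.2) huo
  let sv : IrrCharacter G → ℤ := fun χ => if h : χ ≠ oneChar G then r ⟨χ, h⟩ else 1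
  have hsv : ∀ χ : IrrCharacter G, χ ≠ oneChar G → (χ : G → ℂ) u = sv χ ∧
      (sv χ).natAbs < charDegree (χ : G → ℂ) ∧ (sv χ - (charDegree (χ : G → ℂ) : ℤ)) % 4 = 0 := by
    intro χ h
    simp only [sv, dif_pos h]
    exact ⟨hr ⟨χ, h⟩, hrlt ⟨χ, h⟩, hr4 ⟨χ, h⟩⟩
  have hYc : S.Y.card = 3 := by rw [S.card_Y]
  obtain ⟨θ₀, hθ₀⟩ : S.Y.Nonempty := Finset.card_pos.1 (by omega)
  obtain ⟨hθ₀u, hθ₀lt, hθ₀4⟩ := hsv θ₀ (hYne θ₀ hθ₀)
  have hur : ¬ 19 ∣ orderOf u := by rw [huo]; norm_num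
  let f : IrrCharacter G → ℤ := fun χ => S.εX χ * (charDegree (χ : G → ℂ) : ℤ)
  let v : IrrCharacter G → ℤ := fun χ => S.εX χ * sv χ
  have hrel1 : S.ε * (S.D : ℤ) = 1 + ∑ χ ∈ S.X, f χ := by
    have h := S.relation θ₀ hθ₀ 1 h1o
    simp only [hdeg, S.degree_Y θ₀ hθ₀] at h
    simp only [f]
    exact_mod_cast h
  have hrelu : S.ε * sv θ₀ = 1 + ∑ χ ∈ S.X, v χ := by
    have h := S.relation θ₀ hθ₀ u hur
    rw [hθ₀u, Finset.sum_congr rfl fun χ hχ => by rw [(hsv χ (hXne χ hχ)).1]] at h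
    simp only [v]
    exact_mod_cast h
  have hf : ∀ χ ∈ S.X, f χ ∈ degs := by
    intro χ hχ
    have h := S.mem_cands_one hG hgm (B := 420) (by rw [hg]; norm_num) hχ
    rw [hg] at h
    have hchk : (cands 175560 9240 19 1 420).all (fun s => degs.contains s) = true := by decide +kernel
    simpa [List.contains_iff_mem] using List.all_eq_true.1 hchk _ h
  obtain ⟨hDok, hD19⟩ := S.okAbs_Y hG hgm (by norm_num) (by norm_num) hθ₀
  rw [hrel1] at hDok hD19
  simp only [okAbs, hg, Bool.and_eq_true, decide_eq_true_eq, beq_iff_eq] at hDok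
  have hcol : 1 + ∑ χ ∈ S.X, v χ * v χ + 3 * ((S.ε * sv θ₀) * (S.ε * sv θ₀)) ≤ (c : ℤ) := by
    have h := CfsgLib.Char.sum_irr_mul_conj u u
    rw [if_pos (IsConj.refl u)] at h
    have hre := congrArg Complex.re h
    rw [Complex.natCast_re, Complex.re_sum] at hre
    have hsub := Finset.sum_le_sum_of_subset_of_nonneg
      (Finset.subset_univ ({oneChar G} ∪ S.X ∪ S.Y))
      (f := fun χ : IrrCharacter G => ((χ : G → ℂ) u * conj ((χ : G → ℂ) u)).re)
      (fun χ _ _ => by rw [Complex.mul_conj]; exact Complex.normSq_nonneg _)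
    rw [hre, Finset.sum_union (Finset.disjoint_union_left.2
      ⟨Finset.disjoint_singleton_left.2 S.one_notMem_Y, S.disjoint⟩), Finset.sum_union
      (Finset.disjoint_singleton_left.2 S.one_notMem_X), Finset.sum_singleton] at hsub
    have hX' : ∀ χ ∈ S.X, ((χ : G → ℂ) u * conj ((χ : G → ℂ) u)).re = ((v χ * v χ : ℤ) : ℝ) := by
      intro χ hχ
      rw [(hsv χ (hXne χ hχ)).1]
      simp only [v]
      rcases S.sign_X χ hχ with hs | hs <;> simp [hs]
    have hY' : ∀ θ ∈ S.Y, ((θ : G → ℂ) u * conj ((θ : G → ℂ) u)).re =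
        (((S.ε * sv θ₀) * (S.ε * sv θ₀) : ℤ) : ℝ) := by
      intro θ hθ
      rw [S.regular_Y θ hθ θ₀ hθ₀ u hur, hθ₀u]
      rcases S.sign with hs | hs <;> simp [hs]
    rw [Finset.sum_congr rfl hX', Finset.sum_congr rfl hY', Finset.sum_const, hYc] at hsub
    simp only [nsmul_eq_mul, oneChar, ← hc] at hsub
    generalize c = c' at hsub ⊢
    have h2 : ((1 + ∑ χ ∈ S.X, v χ * v χ + 3 * ((S.ε * sv θ₀) * (S.ε * sv θ₀)) : ℤ) : ℝ) ≤
        ((c' : ℤ) : ℝ) := by
      push_cast at hsub ⊢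
      simpa using hsub
    exact_mod_cast h2
  have hdvdD : S.ε * (S.D : ℤ) ∣ 9240 := by
    rw [hrel1]
    exact Int.natAbs_dvd.1 (Int.natCast_dvd_natCast.2 (Nat.dvd_of_mod_eq_zero hDok.1.2))
  have hdvdf : ∀ χ ∈ S.X, f χ ∣ 9240 := by
    have hchk : ∀ d ∈ degs, d ∣ (9240 : ℤ) := by decide
    exact fun χ hχ => hchk _ (hf χ hχ)
  -- the class multiplication formula
  have heq : 9240 + ∑ χ ∈ S.X, 9240 / f χ * (v χ * v χ) +
      qc (1 + ∑ χ ∈ S.X, f χ) * ((S.ε * sv θ₀) * (S.ε * sv θ₀)) = (c : ℤ) * c := by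
    have hsum : ∑ᶠ ψ : IrrCharacter G,
        (ψ : G → ℂ) u * (ψ : G → ℂ) u * conj ((ψ : G → ℂ) x) / (ψ : G → ℂ) 1 =
          1 + ∑ χ ∈ S.X, (v χ : ℂ) ^ 2 / (f χ : ℂ) -
            ((S.ε * sv θ₀ : ℤ) : ℂ) ^ 2 / ((S.ε * (S.D : ℤ) : ℤ) : ℂ) := by
      rw [finsum_eq_sum_of_fintype, ← Finset.sum_subset (Finset.subset_univ ({oneChar G} ∪ S.X ∪ S.Y))]
      · rw [Finset.sum_union (Finset.disjoint_union_left.2
          ⟨Finset.disjoint_singleton_left.2 S.one_notMem_Y, S.disjoint⟩), Finset.sum_union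
          (Finset.disjoint_singleton_left.2 S.one_notMem_X), Finset.sum_singleton, sub_eq_add_neg]
        refine congrArg₂ (· + ·) (congrArg₂ (· + ·) (by simp [oneChar]) (Finset.sum_congr rfl fun χ hχ => ?_)) ?_
        · have hxc := S.value_X χ hχ x hx hx1 1 (one_mem _) h1o
          rw [mul_one] at hxc
          rw [(hsv χ (hXne χ hχ)).1, hxc, hdeg, map_intCast]
          simp only [f, v]
          rcases S.sign_X χ hχ with hs | hs <;> simp [hs] <;> ring
        · have hv := S.value_Y x hx hx1 1 (one_mem _) h1o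
          simp only [mul_one] at hv
          calc ∑ θ ∈ S.Y, (θ : G → ℂ) u * (θ : G → ℂ) u * conj ((θ : G → ℂ) x) / (θ : G → ℂ) 1
              = ∑ θ ∈ S.Y, (sv θ₀ : ℂ) ^ 2 / (S.D : ℂ) * conj ((θ : G → ℂ) x) := by
                refine Finset.sum_congr rfl fun θ hθ => ?_
                rw [S.regular_Y θ hθ θ₀ hθ₀ u hur, hθ₀u, hdeg, S.degree_Y θ hθ]
                ring
            _ = _ := by
                rw [← Finset.mul_sum, ← map_sum, hv, map_neg, map_intCast]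
                rcases S.sign with hs | hs <;> simp [hs] <;> ring
      · intro ψ _ hψ
        simp only [Finset.mem_union, Finset.mem_singleton, not_or] at hψ
        rw [S.outside hC ψ hψ.1.1 hψ.1.2 hψ.2 x hx hx1, map_zero, mul_zero, zero_div]
    have hform := CfsgLib.Char.classConst_formula u u x
    rw [hsum, CfsgLib.Char.card_isConj,
      classConst_eq_of_inverting (by norm_num) hP hC hx hx1 hu2 hinv] at hform
    have hmain : (c : ℂ) * c = 9240 * (1 + ∑ χ ∈ S.X, (v χ : ℂ) ^ 2 / (f χ : ℂ) -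
        ((S.ε * sv θ₀ : ℤ) : ℂ) ^ 2 / ((S.ε * (S.D : ℤ) : ℤ) : ℂ)) := by
      set F : ℂ := 1 + ∑ χ ∈ S.X, (v χ : ℂ) ^ 2 / (f χ : ℂ) -
        ((S.ε * sv θ₀ : ℤ) : ℂ) ^ 2 / ((S.ε * (S.D : ℤ) : ℤ) : ℂ)
      have hi : ((Subgroup.centralizer ({u} : Set G)).index : ℂ) * (c : ℂ) = (Nat.card G : ℂ) := by
        rw [← Nat.cast_mul, hc, Subgroup.index_mul_card]
      have hi0 : ((Subgroup.centralizer ({u} : Set G)).index : ℂ) ≠ 0 :=
        Nat.cast_ne_zero.2 Subgroup.index_ne_zero_of_finite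
      have hc0 : (c : ℂ) ≠ 0 := Nat.cast_ne_zero.2 Nat.card_pos.ne'
      have h1 : ((19 : ℕ) : ℂ) * (c : ℂ) * (c : ℂ) = (Nat.card G : ℂ) * F := by
        rw [hform, ← hi]
        field_simp
      rw [hgm] at h1
      push_cast at h1
      linear_combination h1 / 19
    have hdiv : ∀ a b : ℤ, b ∣ a → ((a / b : ℤ) : ℂ) = (a : ℂ) / (b : ℂ) := by
      intro a b hab
      rcases eq_or_ne b 0 with rfl | hb
      · simp
      · exact Int.cast_div hab (by exact_mod_cast hb)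
    have key : ((9240 + ∑ χ ∈ S.X, 9240 / f χ * (v χ * v χ) +
        qc (1 + ∑ χ ∈ S.X, f χ) * ((S.ε * sv θ₀) * (S.ε * sv θ₀)) : ℤ) : ℂ) =
          (((c : ℤ) * c : ℤ) : ℂ) := by
      rw [← hrel1, qc]
      simp only [Int.cast_add, Int.cast_mul, Int.cast_neg, Int.cast_sum, Int.cast_natCast,
        hdiv _ _ hdvdD, Finset.sum_congr rfl fun χ hχ =>
          congrArg (fun q : ℂ => q * ((v χ : ℂ) * v χ)) (hdiv _ _ (hdvdf χ hχ))]
      rw [hmain, mul_sub, mul_add, mul_one, Finset.mul_sum]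
      simp only [Int.cast_mul, Int.cast_natCast, Int.cast_ofNat]
      rw [Finset.sum_congr rfl fun χ hχ => show (9240 : ℂ) / (f χ : ℂ) * ((v χ : ℂ) * v χ) =
        9240 * ((v χ : ℂ) ^ 2 / (f χ : ℂ)) by ring]
      ring
    exact_mod_cast key
  refine eq_120_of_data S.X f v c (S.ε * sv θ₀) (by have := S.card_X; omega) hf hDok.1.1 hDok.1.2
    hDok.2 hD19 (fun χ hχ => ?_) hrelu ?_ ?_ hcol heq hc2 hcm ?_
  · obtain ⟨-, hlt, h4⟩ := hsv χ (hXne χ hχ)
    simp only [f, v]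
    rcases S.sign_X χ hχ with hs | hs <;> rw [hs] <;> constructor <;> simp <;> omega
  · rw [← hrel1]
    rw [S.degree_Y θ₀ hθ₀] at hθ₀lt
    rcases S.sign with hs | hs <;> rw [hs] <;> simpa using hθ₀lt
  · rw [← hrel1]
    rw [S.degree_Y θ₀ hθ₀] at hθ₀4
    rcases S.sign with hs | hs <;> rw [hs] <;> omega
  · intro r hr hcr χ hχ hfr
    obtain ⟨q, hq, hq2, hqn, rfl⟩ : ∃ q : ℕ, q.Prime ∧ q ≠ 2 ∧ (q ∣ 175560 ∧ ¬ q ^ 2 ∣ 175560) ∧ r = q := by
      simp only [List.mem_cons, List.not_mem_nil, or_false] at hr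
      rcases hr with rfl | rfl
      · exact ⟨7, by norm_num, by norm_num, by norm_num, rfl⟩
      · exact ⟨11, by norm_num, by norm_num, by norm_num, rfl⟩
    haveI := Fact.mk hq
    obtain ⟨b', hb'⟩ := exists_prime_orderOf_dvd_card' (G := Subgroup.centralizer ({u} : Set G)) q
      (Int.natCast_dvd_natCast.1 (Int.dvd_of_emod_eq_zero hcr))
    have hbo : orderOf (b' : G) = q := by rw [Subgroup.orderOf_coe, hb']
    have hcomm : Commute (b' : G) u := Subgroup.mem_centralizer_singleton_iff.1 b'.2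
    have hqd : q ∣ charDegree (χ : G → ℂ) := by
      have h := Int.natAbs_dvd_natAbs.2 (Int.dvd_of_emod_eq_zero hfr)
      simp only [f] at h
      rcases S.sign_X χ hχ with hs | hs <;> simpa [hs] using h
    have h0 : ∀ j, 1 ≤ j → j < q → (χ : G → ℂ) ((b' : G) ^ j * u) = ((0 : ℤ) : ℂ) := by
      intro j hj1 hj2
      rw [Int.cast_zero]
      refine CfsgLib.Char.char_defect_zero_vanishes χ (p := q) (n := 1) (by rw [hg, pow_one]; exact hqn.1)
        (by rw [hg]; exact hqn.2) (hdeg χ) (by rw [pow_one]; exact hqd) ?_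
      have hbj : orderOf ((b' : G) ^ j) = q := by
        rw [Nat.Coprime.orderOf_pow ?_, hbo]
        rw [hbo]
        exact hq.coprime_iff_not_dvd.2 (Nat.not_dvd_of_pos_of_lt hj1 hj2)
      rw [(hcomm.pow_left j).orderOf_mul_eq_mul_orderOf_of_coprime
        (by rw [hbj, huo]; exact (Nat.coprime_primes hq Nat.prime_two).2 hq2), hbj]
      exact dvd_mul_right q _
    have hdvd := dvd_sub_of_const hq2 χ hbo huo hcomm (hsv χ (hXne χ hχ)).1 h0
    rw [sub_zero] at hdvd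
    exact Int.emod_eq_zero_of_dvd (dvd_mul_of_dvd_right hdvd _)

end CfsgLib.Spor.J1Order
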