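import Cfsg.Agent.Lib.Spor.J1Order.Basic
import Cfsg.Agent.Lib.Spor.J1Order.Values
import Cfsg.Agent.Lib.Spor.J1Order.Seven

/-!
# Order 175560: the Sylow 19-normalizer is a Frobenius group of order 114
-/

set_option autoImplicit false
set_option linter.unusedSectionVars false
set_option linter.style.haveILetI false

namespace CfsgLib.Spor.J1Order

open Cfsg CfsgLib.Block CfsgLib.Perm.PrimeBlock
open scoped Pointwise ComplexConjugate

variable {G : Type*} [Group G] [Finite G] [IsSimpleGroup G]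

theorem centralizer_le_of_mem {p : ℕ} [Fact p.Prime] {P : Sylow p G} {t : G}
    (ht : t ∈ Subgroup.centralizer ((P : Subgroup G) : Set G)) :
    (P : Subgroup G) ≤ Subgroup.centralizer ({t} : Set G) :=
  fun w hw => Subgroup.mem_centralizer_singleton_iff.2 (Subgroup.mem_centralizer_iff.1 ht w hw)

/-- A centralizing element of order `r` fixing only one Sylow subgroup mod `r`. -/
theorem false_of_fix {p r n : ℕ} [Fact p.Prime] [Fact r.Prime] {P : Sylow p G}
    (hP : Nat.card (P : Subgroup G) = p) (hn : Nat.card (Sylow p G) = n) (hn1 : 1 < n)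
    (hr : r ∣ Nat.card (Subgroup.centralizer ((P : Subgroup G) : Set G)))
    (hfk : ∀ f, f < n → f % p = 1 → f % r ≠ n % r) : False := by
  obtain ⟨y, hy⟩ := exists_prime_orderOf_dvd_card' (G := Subgroup.centralizer ((P : Subgroup G) : Set G)) r hr
  have hyo : orderOf (y : G) = r := by rw [Subgroup.orderOf_coe, hy]
  have hy1 : (y : G) ≠ 1 := fun h => by
    rw [h, orderOf_one] at hyo; exact (Fact.out : r.Prime).one_lt.ne hyo
  have h := fix_card_modEq (p := p) hyo
  rw [hn] at h
  exact hfk _ (hn ▸ fix_lt (hn.symm ▸ hn1) hy1) (fix_mod_self hP y.2) h.symm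

/-- With centralizer of order `2p` an element of odd prime order in the normalizer centralizes the involution. -/
theorem dvd_of_card_two {p q e d : ℕ} [Fact p.Prime] [Fact q.Prime] (hodd : p ≠ 2) (hq : q ≠ 2)
    {P : Sylow p G} (hP : Nat.card (P : Subgroup G) = p)
    (hC : Nat.card (Subgroup.centralizer ((P : Subgroup G) : Set G)) = p * 2)
    (hN : Nat.card (Subgroup.normalizer ((P : Subgroup G) : Set G)) = e * (p * 2)) (hqe : q ∣ e)
    (hd : CZ G q d) : 2 ∣ d := by
  classical
  have hp : p.Prime := Fact.out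
  set C := Subgroup.centralizer ((P : Subgroup G) : Set G) with hCdef
  haveI : Fact (Nat.Prime 2) := ⟨Nat.prime_two⟩
  obtain ⟨t', ht'⟩ := exists_prime_orderOf_dvd_card' (G := C) 2 (by rw [hC]; exact dvd_mul_left 2 p)
  obtain ⟨x', hx'⟩ := exists_prime_orderOf_dvd_card' (G := (P : Subgroup G)) p (by rw [hP])
  obtain ⟨t, htC, hto⟩ : ∃ t ∈ C, orderOf t = 2 := ⟨t', t'.2, by rw [Subgroup.orderOf_coe, ht']⟩
  have hxo : orderOf (x' : G) = p := by rw [Subgroup.orderOf_coe, hx']
  have hxC : (x' : G) ∈ C := by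
    haveI : IsMulCommutative (P : Subgroup G) := (isCyclic_of_prime_card hP).isMulCommutative
    exact Subgroup.le_centralizer _ x'.2
  have hcomm : Commute t (x' : G) := (Subgroup.mem_centralizer_iff.1 htC x' x'.2).symm
  haveI : IsCyclic C := by
    refine isCyclic_of_orderOf_eq_card ⟨t * (x' : G), mul_mem htC hxC⟩ ?_
    rw [← Subgroup.orderOf_coe, hcomm.orderOf_mul_eq_mul_orderOf_of_coprime
      (by rw [hto, hxo]; exact (Nat.coprime_primes Nat.prime_two hp).2 hodd.symm), hto, hxo, hC, mul_comm]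
  haveI := Fintype.ofFinite C
  have hone : (Finset.univ.filter fun a : C => orderOf a = 2).card = 1 := by
    rw [IsCyclic.card_orderOf_eq_totient (by rw [← Nat.card_eq_fintype_card, hC]; exact dvd_mul_left 2 p),
      Nat.totient_two]
  obtain ⟨a', ha'⟩ := exists_prime_orderOf_dvd_card'
    (G := Subgroup.normalizer ((P : Subgroup G) : Set G)) q (by rw [hN]; exact dvd_mul_of_dvd_left hqe _)
  obtain ⟨a, haN, hao⟩ : ∃ a ∈ Subgroup.normalizer ((P : Subgroup G) : Set G), orderOf a = q :=
    ⟨a', a'.2, by rw [Subgroup.orderOf_coe, ha']⟩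
  have hsC : a * t * a⁻¹ ∈ C := by
    rw [hCdef, Subgroup.mem_centralizer_iff]
    intro w hw
    have hw' : a⁻¹ * w * a ∈ (P : Subgroup G) := by
      have h1 := ((Subgroup.mem_normalizer_iff.1 (inv_mem haN)) w).1 hw
      rwa [inv_inv] at h1
    have h2 := Subgroup.mem_centralizer_iff.1 htC _ hw'
    calc w * (a * t * a⁻¹) = a * ((a⁻¹ * w * a) * t) * a⁻¹ := by group
      _ = a * (t * (a⁻¹ * w * a)) * a⁻¹ := by rw [h2]
      _ = a * t * a⁻¹ * w := by group
  have heq : a * t * a⁻¹ = t := by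
    have h1 : (⟨a * t * a⁻¹, hsC⟩ : C) ∈ Finset.univ.filter fun a : C => orderOf a = 2 := by
      simp only [Finset.mem_filter, Finset.mem_univ, true_and, ← Subgroup.orderOf_coe]
      exact ((MulAut.conj a).orderOf_eq t).trans hto
    have h2 : (⟨t, htC⟩ : C) ∈ Finset.univ.filter fun a : C => orderOf a = 2 := by
      simp only [Finset.mem_filter, Finset.mem_univ, true_and, ← Subgroup.orderOf_coe]
      exact hto
    exact congrArg Subtype.val (Finset.card_le_one.1 hone.le _ h1 _ h2)
  exact hd.dvd_of_commute Nat.prime_two Fact.out hq.symm hto hao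
    (show Commute t a from (mul_inv_eq_iff_eq_mul.1 heq).symm)

set_option maxHeartbeats 800000 in
/-- No Sylow 19-centralizer of order `19 * 22`. -/
theorem false_of_two_ten (hg : Nat.card G = 175560) [Fintype G] [Fact (Nat.Prime 19)] {P : Sylow 19 G}
    (hP : Nat.card (P : Subgroup G) = 19) (hn : Nat.card (Sylow 19 G) = 210)
    (hC : Nat.card (Subgroup.centralizer ((P : Subgroup G) : Set G)) = 19 * 22)
    (hN : Nat.card (Subgroup.normalizer ((P : Subgroup G) : Set G)) = 2 * (19 * 22))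
    (S : Shape 19 2 (P : Subgroup G)) : False := by
  classical
  have hG := not_comm (G := G) hg
  have hgm : Nat.card G = 9240 * 19 := hg.trans (by norm_num)
  haveI : Fact (Nat.Prime 2) := ⟨Nat.prime_two⟩
  haveI : Fact (Nat.Prime 11) := ⟨by norm_num⟩
  haveI := Fintype.ofFinite (IrrCharacter G)
  have h1o : ¬ 19 ∣ orderOf (1 : G) := by rw [orderOf_one]; norm_num
  -- the character of degree 20 or 56
  obtain ⟨χ, hX⟩ := Finset.card_eq_one.1 (show S.X.card = 1 by have := S.card_X; omega)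
  have hχX : χ ∈ S.X := by rw [hX]; exact Finset.mem_singleton_self _
  obtain ⟨θ₀, hθ₀⟩ : S.Y.Nonempty := Finset.card_pos.1 (by rw [S.card_Y]; norm_num)
  have hχ1 : χ ≠ oneChar G := fun h => S.one_notMem_X (h ▸ hχX)
  have hcand := S.mem_cands_one hG hgm (B := 420) (by rw [hg]; norm_num) hχX
  obtain ⟨hDok, hD19⟩ := S.okAbs_Y hG hgm (by norm_num) le_rfl hθ₀
  have hrel : S.ε * (S.D : ℤ) = 1 + S.εX χ * (charDegree (χ : G → ℂ) : ℤ) := by
    have h := S.relation θ₀ hθ₀ 1 h1o
    simp only [(charDegree_eq _).1, S.degree_Y θ₀ hθ₀, hX, Finset.sum_singleton] at h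
    exact_mod_cast h
  rw [hrel, hg] at hDok
  rw [hrel] at hD19
  rw [hg] at hcand
  have hs : S.εX χ * (charDegree (χ : G → ℂ) : ℤ) = -56 ∨ S.εX χ * (charDegree (χ : G → ℂ) : ℤ) = 20 := by
    have hchk : (cands 175560 9240 19 1 420).all (fun s => !(okAbs 175560 9240 (1 + s).natAbs &&
        ((1 + s) % 19 == 2)) || (s == -56) || (s == 20)) = true := by decide +kernel
    have h := List.all_eq_true.1 hchk _ hcand
    simpa [hDok, show (1 + S.εX χ * (charDegree (χ : G → ℂ) : ℤ)) % 19 = 2 from hD19] using h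
  -- an involution in the centralizer
  obtain ⟨t', ht'⟩ := exists_prime_orderOf_dvd_card'
    (G := Subgroup.centralizer ((P : Subgroup G) : Set G)) 2 (by rw [hC]; norm_num)
  obtain ⟨t, htC, hto⟩ : ∃ t ∈ Subgroup.centralizer ((P : Subgroup G) : Set G), orderOf t = 2 :=
    ⟨t', t'.2, by rw [Subgroup.orderOf_coe, ht']⟩
  have ht1 : t ≠ 1 := fun h => by rw [h, orderOf_one] at hto; norm_num at hto
  obtain ⟨x', hx'⟩ := exists_prime_orderOf_dvd_card' (G := (P : Subgroup G)) 19 (by rw [hP])
  have hxo : orderOf (x' : G) = 19 := by rw [Subgroup.orderOf_coe, hx']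
  have hcomm : Commute (x' : G) t := Subgroup.mem_centralizer_iff.1 htC x' x'.2
  obtain ⟨r, hr, hrlt, hr4⟩ := involution_value hG χ (fun h => hχ1 (Subtype.ext h)) hto
  have hdvd := dvd_sub_of_const (r := 19) (by norm_num) χ hxo hto hcomm hr (κ := S.εX χ) fun j hj1 hj2 =>
    S.value_X χ hχX ((x' : G) ^ j) (pow_mem x'.2 j)
      (fun h => Nat.not_dvd_of_pos_of_lt hj1 hj2 (by rw [← hxo]; exact orderOf_dvd_of_pow_eq_one h))
      t htC (by rw [hto]; norm_num)
  have hr20 : r = -20 := by
    obtain ⟨k, hk⟩ := hdvd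
    rcases hs with hs | hs <;> rcases S.sign_X χ hχX with h | h <;> rw [h] at hs hk <;>
      push_cast at hk <;> omega
  -- the column at `t`
  have hcol : (400 : ℝ) ≤ (Nat.card (Subgroup.centralizer ({t} : Set G)) : ℝ) := by
    have h := CfsgLib.Char.sum_irr_mul_conj t t
    rw [if_pos (IsConj.refl t)] at h
    have hre := congrArg Complex.re h
    rw [Complex.natCast_re, Complex.re_sum] at hre
    rw [← hre]
    refine le_trans (le_of_eq ?_) (Finset.single_le_sum
      (f := fun ψ : IrrCharacter G => ((ψ : G → ℂ) t * conj ((ψ : G → ℂ) t)).re)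
      (fun ψ _ => by rw [Complex.mul_conj]; exact Complex.normSq_nonneg _) (Finset.mem_univ χ))
    simp [hr, hr20]
    norm_num
  have hcolN : 400 ≤ Nat.card (Subgroup.centralizer ({t} : Set G)) := by exact_mod_cast hcol
  set K := Subgroup.centralizer ({t} : Set G) with hK
  have hKN := le_normalizer_nineteen hg P hP (centralizer_ne_top hg ht1) (centralizer_le_of_mem htC)
  have hKdvd : Nat.card K ∣ 836 := by
    have := Subgroup.card_dvd_of_le hKN
    rwa [hN] at this
  have hK11 : 11 ∣ Nat.card K := by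
    have hchk : ∀ d < 837, d ∣ 836 → 400 ≤ d → 11 ∣ d := by decide +kernel
    exact hchk _ (Nat.lt_succ_of_le (Nat.le_of_dvd (by norm_num) hKdvd)) hKdvd hcolN
  obtain ⟨y, hyo, hyt⟩ := exists_commuting (q := 11) (a := t) hK11
  -- it centralizes `P`
  have hyN : y ∈ Subgroup.normalizer ((P : Subgroup G) : Set G) :=
    hKN (Subgroup.mem_centralizer_singleton_iff.2 hyt)
  have hyC : y ∈ Subgroup.centralizer ((P : Subgroup G) : Set G) := by
    set N := Subgroup.normalizer ((P : Subgroup G) : Set G)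
    set k := (Subgroup.normalizerMonoidHom (P : Subgroup G)).ker with hk
    have hki : k.index = 2 := by
      have h := k.card_mul_index
      rw [hk, Subgroup.normalizerMonoidHom_ker] at h ⊢
      rw [Nat.card_congr (Subgroup.subgroupOfEquivOfLe (Subgroup.centralizer_le_normalizer _)).toEquiv,
        hC, hN] at h
      omega
    have h2 := Subgroup.pow_index_mem k (⟨y, hyN⟩ : N)
    rw [hki, hk, Subgroup.normalizerMonoidHom_ker, Subgroup.mem_subgroupOf] at h2
    have hy11 : y = (y ^ 2) ^ 6 := by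
      rw [← pow_mul, show 2 * 6 = 1 + 11 from rfl, pow_add, pow_one, ← hyo, pow_orderOf_eq_one, mul_one]
    rw [hy11]
    exact pow_mem h2 6
  have hy1 : y ≠ 1 := fun h => by rw [h, orderOf_one] at hyo; norm_num at hyo
  -- the fixed Sylow subgroups of `y` and `t`
  have hfy : Nat.card {R : Sylow 19 G // y • R = R} = 1 := by
    have h1 := fix_mod_self hP hyC
    have h2 := fix_card_modEq (p := 19) hyo
    rw [hn, Nat.ModEq] at h2
    have h3 := fix_lt (p := 19) (by rw [hn]; norm_num) hy1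
    rw [hn] at h3
    omega
  have hfty : Nat.card {R : Sylow 19 G // t • R = R ∧ y • R = R} = 1 := by
    refine le_antisymm ?_ (Nat.card_pos_iff.2 ⟨⟨⟨P, ?_, ?_⟩⟩, inferInstance⟩)
    · rw [← hfy]
      exact Nat.card_le_card_of_injective (fun R => (⟨R.1, R.2.2⟩ : {R : Sylow 19 G // y • R = R}))
        fun A B h => Subtype.ext (congrArg (fun q => q.1) h)
    · exact Sylow.smul_eq_iff_mem_normalizer.2 (Subgroup.centralizer_le_normalizer _ htC)
    · exact Sylow.smul_eq_iff_mem_normalizer.2 hyN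
  have h1 := fix_mod_self hP htC
  have h2 := fix_card_modEq (p := 19) hto
  rw [hn, Nat.ModEq] at h2
  have h3 := fix_lt (p := 19) (by rw [hn]; norm_num) ht1
  rw [hn] at h3
  have h4 := fix_modEq (p := 19) (hyt.symm) hyo
  rw [hfty, Nat.ModEq] at h4
  omega

/-- No Sylow 19-normalizer with an automiser of order three. -/
theorem false_of_auto_three (hg : Nat.card G = 175560) [Fact (Nat.Prime 19)] {P : Sylow 19 G}
    (hP : Nat.card (P : Subgroup G) = 19)
    (hC : Nat.card (Subgroup.centralizer ((P : Subgroup G) : Set G)) = 19 * 2)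
    (hN : Nat.card (Subgroup.normalizer ((P : Subgroup G) : Set G)) = 3 * (19 * 2)) : False := by
  haveI : Fact (Nat.Prime 2) := ⟨Nat.prime_two⟩
  obtain ⟨t, ht⟩ := exists_prime_orderOf_dvd_card'
    (G := Subgroup.centralizer ((P : Subgroup G) : Set G)) 2 (by rw [hC]; norm_num)
  have hto : orderOf (t : G) = 2 := by rw [Subgroup.orderOf_coe, ht]
  have ht1 : (t : G) ≠ 1 := fun h => by rw [h, orderOf_one] at hto; norm_num at hto
  have hKN := le_normalizer_nineteen hg P hP (centralizer_ne_top hg ht1) (centralizer_le_of_mem t.2)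
  have h := (four_dvd_centralizer hg hto).trans (Subgroup.card_dvd_of_le hKN)
  rw [hN] at h
  norm_num at h

set_option maxHeartbeats 800000 in
/-- No Sylow 19-centralizer of order `57`. -/
theorem false_of_auto_two (hg : Nat.card G = 175560) [Fintype G] [Fact (Nat.Prime 19)] {P : Sylow 19 G}
    (hP : Nat.card (P : Subgroup G) = 19) (h19 : CZ G 19 3)
    (hC : Nat.card (Subgroup.centralizer ((P : Subgroup G) : Set G)) = 19 * 3)
    (hN : Nat.card (Subgroup.normalizer ((P : Subgroup G) : Set G)) = 2 * (19 * 3)) : False := by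
  classical
  haveI : Fact (Nat.Prime 2) := ⟨Nat.prime_two⟩
  haveI : Fact (Nat.Prime 3) := ⟨Nat.prime_three⟩
  haveI : Fact (Nat.Prime 5) := ⟨by norm_num⟩
  haveI : Fact (Nat.Prime 7) := ⟨by norm_num⟩
  haveI : Fact (Nat.Prime 11) := ⟨by norm_num⟩
  have hG := not_comm (G := G) hg
  set C := Subgroup.centralizer ((P : Subgroup G) : Set G) with hCdef
  -- centralizers of elements of order three
  obtain ⟨P₃, n₃, e₃, c₃, ho₃, h3, -, -, -, -, -⟩ := exists_opt hg 3 58520 (by norm_num) rfl (by norm_num)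
  obtain ⟨a', ha'⟩ := exists_prime_orderOf_dvd_card' (G := C) 3 (by rw [hC]; norm_num)
  have hao : orderOf (a' : G) = 3 := by rw [Subgroup.orderOf_coe, ha']
  have ha1 : (a' : G) ≠ 1 := fun h => by rw [h, orderOf_one] at hao; norm_num at hao
  have hc3 : c₃ = 19 := by
    have hPa := centralizer_le_of_mem (P := P) a'.2
    obtain ⟨x', hx'⟩ := exists_prime_orderOf_dvd_card' (G := (P : Subgroup G)) 19 (by rw [hP])
    have hxo : orderOf (x' : G) = 19 := by rw [Subgroup.orderOf_coe, hx']
    have hcomm : Commute (a' : G) (x' : G) := (Subgroup.mem_centralizer_iff.1 a'.2 x' x'.2).symm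
    have h57 : orderOf ((a' : G) * (x' : G)) = 57 := by
      rw [hcomm.orderOf_mul_eq_mul_orderOf_of_coprime (by rw [hao, hxo]; norm_num), hao, hxo]
    have hmem : (a' : G) * (x' : G) ∈ Subgroup.centralizer ({(a' : G)} : Set G) :=
      mul_mem (Subgroup.mem_centralizer_singleton_iff.2 rfl) (hPa x'.2)
    have hlow := Subgroup.orderOf_dvd_natCard _ hmem
    rw [h57, h3 _ hao] at hlow
    have hup := Subgroup.card_dvd_of_le
      (le_normalizer_nineteen hg P hP (centralizer_ne_top hg ha1) hPa)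
    rw [h3 _ hao, hN] at hup
    have h1 : 19 ∣ c₃ := Nat.dvd_of_mul_dvd_mul_left (by norm_num) (show 3 * 19 ∣ 3 * c₃ from hlow)
    have h2 : c₃ ∣ 38 := Nat.dvd_of_mul_dvd_mul_left (by norm_num) (show 3 * c₃ ∣ 3 * 38 from hup)
    have h4 := Nat.le_of_dvd (by norm_num) h2
    have h5 := three_ne ho₃
    obtain ⟨k, hk⟩ := h1
    have hk0 : 0 < c₃ := Nat.pos_of_dvd_of_pos h2 (by norm_num)
    have : k ≤ 2 := by omega
    interval_cases k <;> omega
  subst hc3
  obtain ⟨P₅, n₅, e₅, c₅, ho₅, h5, -, -, -, -, -⟩ := exists_opt hg 5 35112 (by norm_num) rfl (by norm_num)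
  obtain ⟨P₇, n₇, e₇, c₇, ho₇, h7, hP₇, -, hC₇, hN₇, ⟨S₇⟩⟩ :=
    exists_opt hg 7 25080 (by norm_num) rfl (by norm_num)
  obtain ⟨P₁, n₁, e₁, c₁, ho₁, h11, hP₁, -, hC₁, hN₁, -⟩ :=
    exists_opt hg 11 15960 (by norm_num) rfl (by norm_num)
  have h3G : 3 ∣ Nat.card G := by rw [hg]; norm_num
  have h5G : 5 ∣ Nat.card G := by rw [hg]; norm_num
  have h7G : 7 ∣ Nat.card G := by rw [hg]; norm_num
  have h11G : 11 ∣ Nat.card G := by rw [hg]; norm_num
  -- no element of order three or nineteen centralizes one of order five, seven, eleven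
  have n3 : ∀ {q d : ℕ}, q.Prime → q ≠ 3 → q ∣ Nat.card G → CZ G q d → q ≠ 19 → ¬ 3 ∣ d := by
    intro q d hq hq3 hqG hd hq19 h
    have := CZ.symm hq Nat.prime_three hq3 hqG hd h3 h
    exact hq19 ((Nat.prime_dvd_prime_iff_eq hq (by norm_num)).1 this)
  have n19 : ∀ {q d : ℕ}, q.Prime → q ≠ 19 → q ∣ Nat.card G → CZ G q d → q ≠ 3 → ¬ 19 ∣ d := by
    intro q d hq hq19 hqG hd hq3 h
    have := CZ.symm hq (by norm_num : Nat.Prime 19) hq19 hqG hd h19 h
    exact hq3 ((Nat.prime_dvd_prime_iff_eq hq Nat.prime_three).1 this)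
  obtain ⟨five7, five2⟩ := five_no_seven ho₅
    (n3 (q := 5) (by norm_num) (by norm_num) h5G h5 (by norm_num))
    (n19 (q := 5) (by norm_num) (by norm_num) h5G h5 (by norm_num))
  obtain ⟨eleven7, eleven2⟩ := eleven_cases ho₁
    (n3 (q := 11) (by norm_num) (by norm_num) h11G h11 (by norm_num))
    (n19 (q := 11) (by norm_num) (by norm_num) h11G h11 (by norm_num))
  rcases seven_cases ho₇ (n3 (q := 7) (by norm_num) (by norm_num) h7G h7 (by norm_num))
    (n19 (q := 7) (by norm_num) (by norm_num) h7G h7 (by norm_num)) with h | h | ⟨-, rfl, rfl⟩ | ⟨-, rfl, rfl⟩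
  · exact five7 (CZ.symm (by norm_num) (by norm_num) (by norm_num) h7G h7 h5 h)
  · exact eleven7 (CZ.symm (by norm_num) (by norm_num) (by norm_num) h7G h7 h11 h)
  · have := dvd_of_card_two (q := 3) (by norm_num) (by norm_num) hP₇ hC₇ hN₇ dvd_rfl h3
    norm_num at this
  · rw [mul_one] at hC₇ hN₇
    obtain ⟨x, u, hx, hx1, huo, hu2, hinv⟩ :=
      exists_inverting (by norm_num) hP₇ (by decide) hC₇ hN₇
    set K := Subgroup.centralizer ({u} : Set G) with hK
    have hno : ∀ {q d : ℕ}, q.Prime → q ≠ 2 → CZ G q d → ¬ 2 ∣ d → ¬ q ∣ Nat.card K := by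
      intro q d hq hq2 hd hodd h
      haveI := Fact.mk hq
      obtain ⟨b, hb, hbu⟩ := exists_commuting (q := q) (a := u) h
      exact hodd (hd.dvd_of_commute Nat.prime_two hq hq2.symm huo hb hbu.symm)
    have k3 := hno Nat.prime_three (by norm_num) h3 (by norm_num)
    have k19 := hno (q := 19) (by norm_num) (by norm_num) h19 (by norm_num)
    have k7 := hno (q := 7) (by norm_num) (by norm_num) h7 (by norm_num)
    have k5 := hno (q := 5) (by norm_num) (by norm_num) h5 five2
    have k11 : ¬ 11 ∣ Nat.card K := by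
      refine hno (q := 11) (by norm_num) (by norm_num) h11 ?_
      rcases eleven2 with h | ⟨-, rfl, rfl⟩
      · exact h
      · exact absurd (dvd_of_card_two (q := 5) (by norm_num) (by norm_num) hP₁ hC₁ hN₁ dvd_rfl h5) five2
    have hKs := two_part (hg ▸ Subgroup.card_subgroup_dvd_card K) k3 k5 k7 k11 k19
    obtain ⟨l, hl, hc2, -, a, ha, hgood⟩ := S₇.exists_assign hG (p := 7) (m := 25080) (B := 420)
      (by norm_num) hP₇ (hg.trans (by norm_num)) (by norm_num) (by norm_num) (by norm_num) hC₇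
      (by rw [hg]; norm_num) hx hx1 huo
    rw [classConst_eq_of_inverting (by norm_num) hP₇ hC₇ hx hx1 hu2 hinv, hg] at hgood
    rw [hg] at hl
    have h := List.all_eq_true.1 (List.all_eq_true.1 sevenOK_eq l hl) (Nat.card K) (by
      simp only [List.mem_cons, List.not_mem_nil, or_false]
      rcases hKs with h | h | h | h
      · exact absurd (h ▸ hc2) (by norm_num)
      · exact Or.inl h
      · exact Or.inr (Or.inl h)
      · exact Or.inr (Or.inr h))
    have h' := List.all_eq_true.1 h a ha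
    rw [hgood] at h'
    exact absurd h' (by decide)

/-- The Sylow 19-subgroups: self-centralizing, with normalizers of order 114. -/
theorem nineteen_data (hg : Nat.card G = 175560) [Fintype G] [Fact (Nat.Prime 19)] :
    ∃ P : Sylow 19 G, Nat.card (P : Subgroup G) = 19 ∧
      Nat.card (Subgroup.centralizer ((P : Subgroup G) : Set G)) = 19 ∧
      Nat.card (Subgroup.normalizer ((P : Subgroup G) : Set G)) = 6 * 19 ∧ CZ G 19 1 ∧
      Nonempty (Shape 19 6 (P : Subgroup G)) := by
  haveI : Fact (Nat.Prime 5) := ⟨by norm_num⟩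
  haveI : Fact (Nat.Prime 7) := ⟨by norm_num⟩
  obtain ⟨P, n, e, c, ho, hcz, hP, hn, hC, hN, ⟨S⟩⟩ :=
    exists_opt hg 19 9240 (by norm_num) rfl (by norm_num)
  rcases nineteen_cases ho with ⟨rfl, h⟩ | ⟨rfl, h⟩ | ⟨rfl, rfl, rfl⟩ | ⟨-, rfl, rfl⟩ | ⟨-, rfl, rfl⟩ |
    ⟨-, rfl, rfl⟩
  · exact (false_of_fix (r := 7) hP hn.symm (by norm_num) (hC ▸ dvd_mul_of_dvd_right h 19)
      (by decide)).elim
  · exact (false_of_fix (r := 5) hP hn.symm (by norm_num) (hC ▸ dvd_mul_of_dvd_right h 19)
      (by decide)).elim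
  · exact (false_of_two_ten hg hP hn.symm hC hN S).elim
  · exact (false_of_auto_two hg hP hcz hC hN).elim
  · exact (false_of_auto_three hg hP hC hN).elim
  · exact ⟨P, hP, hC, hN, hcz, ⟨S⟩⟩

end CfsgLib.Spor.J1Order
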